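import Groth.Agent.PicAVLib.RepBase
import Groth.Agent.DVRCrit.Scheme
import Groth.Agent.PoincareLib.Kernel
import Groth.Agent.AVLib.IdSub
import Groth.Agent.S7795
import Groth.Agent.BlowChartLib.RegStalk
import Groth.Agent.FinCondEasy.Components
import Groth.Agent.ParaFLib.ExtendMain
import Groth.Agent.RegLocal.UFD

/-!
# The identity component of the Picard scheme of an abelian variety is proper
-/

set_option autoImplicit false
set_option backward.isDefEq.respectTransparency false
set_option backward.isDefEq.respectTransparency.types false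
set_option linter.style.haveILetI false
set_option synthInstance.maxHeartbeats 400000
set_option maxHeartbeats 1000000

universe u

open CategoryTheory CategoryTheory.Limits MonoidalCategory CartesianMonoidalCategory MonObj AlgebraicGeometry
open Groth.Agent.PicLib

noncomputable section

namespace Groth.Agent.PicAVLib

open GrpSchLib (idComp unitPt)

theorem isOpenImmersion_generic (R : Type u) [CommRing R] [IsDomain R] [IsDiscreteValuationRing R] :
    IsOpenImmersion (Spec.map (CommRingCat.ofHom (algebraMap R (FractionRing R)))) := by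
  obtain ⟨π, hπ⟩ := IsDiscreteValuationRing.exists_irreducible R
  have hinj : Function.Injective (algebraMap R (FractionRing R)) := IsFractionRing.injective R _
  haveI : IsLocalization.Away π (FractionRing R) := by
    constructor
    constructor
    · rintro ⟨_, n, rfl⟩
      exact IsUnit.mk0 _ fun h => pow_ne_zero n hπ.ne_zero ((map_eq_zero_iff _ hinj).1 h)
    · intro z
      obtain ⟨⟨a, b⟩, hab⟩ := IsLocalization.surj (nonZeroDivisors R) z
      obtain ⟨n, u, hb⟩ := IsDiscreteValuationRing.eq_unit_mul_pow_irreducible (nonZeroDivisors.ne_zero b.2) hπ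
      simp only [hb] at hab
      refine ⟨⟨a * ↑u⁻¹, ⟨_, n, rfl⟩⟩, ?_⟩
      calc z * algebraMap R (FractionRing R) (π ^ n)
          = z * algebraMap R (FractionRing R) (↑u * π ^ n) * algebraMap R (FractionRing R) ↑u⁻¹ := by
            rw [_root_.mul_assoc, ← map_mul, _root_.mul_comm (↑u : R), _root_.mul_assoc, Units.mul_inv, _root_.mul_one]
        _ = algebraMap R (FractionRing R) (a * ↑u⁻¹) := by rw [hab, map_mul]
    · intro a b h
      exact ⟨1, by rw [hinj h]⟩
  exact IsOpenImmersion.of_isLocalization π

variable {K : Type u} [Field K] {A : Over (Spec (CommRingCat.of K))} [GrpObj A]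
  [IsProper A.hom] [GeometricallyIntegral A.hom] {P : Over (Spec (CommRingCat.of K))} [GrpObj P]

/-- Points of the Picard scheme over the fraction field of a discrete valuation ring extend. -/
theorem PicRep.exists_lift (D : PicRep A P) (R : Type u) [CommRing R] [IsDomain R] [IsDiscreteValuationRing R]
    (b : Spec (CommRingCat.of R) ⟶ Spec (CommRingCat.of K))
    (x : Over.mk (Spec.map (CommRingCat.ofHom (algebraMap R (FractionRing R))) ≫ b) ⟶ P) :
    ∃ l : Over.mk b ⟶ P,
      (Over.homMk (Spec.map (CommRingCat.ofHom (algebraMap R (FractionRing R)))) rfl :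
        Over.mk (Spec.map (CommRingCat.ofHom (algebraMap R (FractionRing R))) ≫ b) ⟶ Over.mk b) ≫ l = x := by
  let j := Spec.map (CommRingCat.ofHom (algebraMap R (FractionRing R)))
  let T : Over (Spec (CommRingCat.of K)) := Over.mk b
  let TK : Over (Spec (CommRingCat.of K)) := Over.mk (j ≫ b)
  let jj : TK ⟶ T := Over.homMk j rfl
  let i := (A ◁ jj).left
  let π : (A ⊗ T).left ⟶ T.left := (snd A T).left
  haveI : LocallyOfFinitePresentation A.hom := inferInstance
  haveI : Flat A.hom := inferInstance
  haveI : GeometricallyReduced A.hom := inferInstance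
  haveI : Smooth A.hom := S7795.result A
  haveI : GeometricallyConnected A.hom := GeomIrred.geometricallyConnected_of_geometricallyIrreducible A.hom
  haveI : IsProper π := MorphismProperty.pullback_snd A.hom T.hom inferInstance
  haveI : Smooth π := MorphismProperty.pullback_snd A.hom T.hom inferInstance
  haveI : GeometricallyConnected π := MorphismProperty.pullback_snd A.hom T.hom inferInstance
  haveI : IsOpenImmersion j := isOpenImmersion_generic R
  haveI : IsOpenImmersion i :=
    MorphismProperty.of_isPullback (P := @IsOpenImmersion) (PoincareLib.isPullback_whiskerLeft A jj).flip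
      (inferInstanceAs (IsOpenImmersion j))
  haveI : IsLocallyNoetherian T.left := inferInstanceAs (IsLocallyNoetherian (Spec (CommRingCat.of R)))
  haveI : IsLocallyNoetherian (A ⊗ T).left := LocallyOfFiniteType.isLocallyNoetherian π
  haveI : CompactSpace T.left := inferInstanceAs (CompactSpace (Spec (CommRingCat.of R)))
  haveI : CompactSpace ↥(A ⊗ T).left := QuasiCompact.compactSpace_of_compactSpace π
  haveI : IsNoetherian (A ⊗ T).left := ⟨⟩
  haveI : ConnectedSpace T.left := inferInstanceAs (ConnectedSpace (Spec (CommRingCat.of R)))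
  haveI : ConnectedSpace ↥(A ⊗ T).left := GeometricallyConnected.connectedSpace π π.isOpenMap
  haveI : IsRegularRing Γ(Spec (CommRingCat.of R), ⊤) :=
    IsRegularRing.of_ringEquiv (Scheme.ΓSpecIso (CommRingCat.of R)).commRingCatIsoToRingEquiv.symm
  haveI : IsRegularRing Γ(T.left, ⊤) := ‹IsRegularRing Γ(Spec (CommRingCat.of R), ⊤)›
  have hreg : ∀ x : (A ⊗ T).left, IsRegularLocalRing ((A ⊗ T).left.presheaf.stalk x) := fun x =>
    BlowChartLib.regular_stalk_of_smooth π x ((BlowChartLib.stalk_regular_iff
      (show IsAffineOpen (⊤ : T.left.Opens) from isAffineOpen_top (Spec (CommRingCat.of R))) trivial).2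
      (IsRegularRing.isRegularLocalRing_localization _))
  haveI : IsIntegral (A ⊗ T).left :=
    (FinCondEasy.isIntegral_iff' _).2 ⟨inferInstance, fun x => by haveI := hreg x; exact RegLocal.isDomain _⟩
  obtain ⟨L, hL, hLc⟩ := exists_cls (pull (A ◁ x).left D.uni)
  have hrig : pull (rigPt A TK).left (cls hL) = 1 := hLc ▸ pull_whisker_mem A x D.rig
  obtain ⟨L', hL', ⟨e⟩⟩ := ParaFLib.exists_invertible_extension
    (fun z => by haveI := hreg z; haveI := RegLocal.isDomain ((A ⊗ T).left.presheaf.stalk z); exact RegLocal.ufd _)
    i.opensRange ((Scheme.Modules.pullback i.isoOpensRange.inv).obj L) (AmpleLib.isInvertible_pullback _ hL)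
  have hres : pull i.opensRange.ι (cls hL') = pull i.isoOpensRange.inv (cls hL) := by
    rw [pull_cls, pull_cls]
    exact (cls_eq_cls _ _).2 ⟨((Scheme.Modules.restrictFunctorIsoPullback _).app L').symm ≪≫ e⟩
  have hLL' : pull i (cls hL') = cls hL := by
    conv_lhs => rw [← Scheme.Hom.isoOpensRange_hom_ι i]
    rw [pull_comp, hres, ← pull_comp, Iso.hom_inv_id, pull_id]
  let c : Pic (A ⊗ T).left := cls hL' / pull (snd A T).left (pull (rigPt A T).left (cls hL'))
  have hsec : ∀ (d : Pic T.left), pull (rigPt A T).left (pull (snd A T).left d) = d := fun d => by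
    rw [← pull_comp, ← Over.comp_left, rigPt, lift_snd, Over.id_left, pull_id]
  have hc : pull (rigPt A T).left c = 1 := by rw [map_div, hsec, div_self']
  obtain ⟨l, hl⟩ := D.surj T c hc
  have hic : pull i c = pull (A ◁ x).left D.uni := by
    have h1 : pull i (pull (snd A T).left (pull (rigPt A T).left (cls hL'))) =
        pull (snd A TK).left (pull (rigPt A TK).left (pull i (cls hL'))) := by
      rw [← pull_comp, ← pull_comp, ← pull_comp, ← pull_comp, ← Over.comp_left, ← Over.comp_left, ← Over.comp_left,
        ← Over.comp_left, whiskerLeft_snd, Category.assoc, Category.assoc, rigPt_whisker]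
    rw [map_div, h1, hLL', hrig, map_one, div_one, hLc]
  refine ⟨l, D.inj _ _ ?_⟩
  show pull (A ◁ (jj ≫ l)).left D.uni = _
  rw [MonoidalCategory.whiskerLeft_comp, Over.comp_left, pull_comp, hl, hic]

variable [IsAlgClosed K] [IsSeparated P.hom] [LocallyOfFiniteType P.hom]

/-- The reduced identity component of the Picard scheme is an abelian variety. -/
theorem PicRep.exists_idAV (D : PicRep A P) :
    ∃ (N : Over (Spec (CommRingCat.of K))) (_ : GrpObj N) (i : N ⟶ P), IsMonHom i ∧ IsClosedImmersion i.left ∧
      IsProper N.hom ∧ GeometricallyIntegral N.hom ∧ Set.range i.left = idComp P := by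
  obtain ⟨N, hN, i, hi, hci, hred, hr⟩ := MonoFibre.exists_redSubgroup (idComp P) isClosed_irreducibleComponent
    mem_irreducibleComponent AVLib.mul_mem_idComp AVLib.inv_mem_idComp
  letI := hN
  haveI := hci
  haveI := hred
  haveI : IsLocallyNoetherian (Spec (CommRingCat.of K)) := inferInstance
  haveI : LocallyOfFiniteType N.hom := by rw [← Over.w i]; infer_instance
  haveI : IsSeparated N.hom := by rw [← Over.w i]; infer_instance
  haveI : CompactSpace N.left := by
    refine ⟨i.left.isEmbedding.isInducing.isCompact_iff.2 ?_⟩
    rw [Set.image_univ, hr, ← GrpSchLib.range_idIncl]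
    haveI := GrpSchLib.compactSpace_idObj (G := P)
    exact isCompact_range (GrpSchLib.idIncl P).left.continuous
  haveI : QuasiCompact N.hom := (quasiCompact_iff_compactSpace N.hom).2 inferInstance
  haveI : IsProper N.hom := by
    refine DVRCrit.isProper_of_dvr N.hom fun R _ _ _ x y h => ?_
    let j := Spec.map (CommRingCat.ofHom (algebraMap R (FractionRing R)))
    let x' : Over.mk (j ≫ y) ⟶ P := Over.homMk (x ≫ i.left) (by
      show (x ≫ i.left) ≫ P.hom = j ≫ y
      rw [Category.assoc, Over.w, h])
    obtain ⟨l, hl⟩ := D.exists_lift R y x'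
    have hl' : j ≫ l.left = x ≫ i.left := congrArg CommaMorphism.left hl
    have hrange : Set.range l.left ⊆ Set.range i.left := by
      rintro _ ⟨p, rfl⟩
      have hgen : j (IsLocalRing.closedPoint (FractionRing R)) ⤳ p := by
        refine (PrimeSpectrum.le_iff_specializes (j (IsLocalRing.closedPoint (FractionRing R)) : PrimeSpectrum R)
          (p : PrimeSpectrum R)).1 fun a ha => ?_
        have ha' : algebraMap R (FractionRing R) a ∈ IsLocalRing.maximalIdeal (FractionRing R) := ha
        rw [IsLocalRing.maximalIdeal_eq_bot, Ideal.mem_bot,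
          map_eq_zero_iff _ (IsFractionRing.injective R (FractionRing R))] at ha'
        rw [ha']
        exact Ideal.zero_mem _
      refine (hgen.map l.left.continuous).mem_closed i.left.isClosedEmbedding.isClosed_range ?_
      show (j ≫ l.left) (IsLocalRing.closedPoint (FractionRing R)) ∈ _
      rw [hl']
      exact ⟨_, rfl⟩
    haveI : IsReduced (Over.mk y).left := inferInstanceAs (IsReduced (Spec (CommRingCat.of R)))
    haveI : Surjective (pullback.fst l.left i.left) := ⟨fun p => by
      obtain ⟨q, hq⟩ := hrange ⟨p, rfl⟩
      obtain ⟨z, hz, -⟩ := Scheme.Pullback.exists_preimage_pullback p q hq.symm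
      exact ⟨z, hz⟩⟩
    haveI : IsIso (pullback.fst l.left i.left) := isIso_of_isClosedImmersion_of_surjective _
    let m : Spec (CommRingCat.of R) ⟶ N.left := inv (pullback.fst l.left i.left) ≫ pullback.snd l.left i.left
    have hm : m ≫ i.left = l.left := by
      rw [Category.assoc, ← pullback.condition, IsIso.inv_hom_id_assoc]
    have hmN : m ≫ N.hom = y := by rw [← Over.w i, ← Category.assoc, hm, Over.w]; rfl
    have hmx : j ≫ m = x := by rw [← cancel_mono i.left, Category.assoc, hm, hl']
    exact ⟨m, ⟨hmN, hmx⟩, fun m' hm' => DVRCrit.ext_of_isSeparated N.hom (hm'.1.trans hmN.symm) (hm'.2.trans hmx.symm)⟩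
  haveI : ConnectedSpace N.left := by
    haveI : IrreducibleSpace N.left := by
      refine i.left.isEmbedding.toHomeomorph.irreducibleSpace_iff.mpr (isIrreducible_iff_irreducibleSpace.mp ?_)
      rw [hr]
      exact isIrreducible_irreducibleComponent
    infer_instance
  haveI : GeometricallyConnected N.hom :=
    MonoFibre.geometricallyConnected_of_section N.hom η[N].left (Over.w η[N])
  haveI := AVLib.geometricallyReduced_of_perfect N.hom
  haveI : Smooth N.hom := by
    haveI : Flat N.hom := inferInstance
    haveI : LocallyOfFinitePresentation N.hom := inferInstance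
    exact S7795.result N
  exact ⟨N, hN, i, hi, hci, inferInstance, AVLib.geometricallyIntegral_of_smooth N, hr⟩

end Groth.Agent.PicAVLib
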