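import Groth.Agent.PicAVLib.Chart
import Groth.Agent.AVLib.Square
import Groth.Agent.AVLib.Invariant
import Groth.Agent.AVLib.AmpleCrit
import Groth.Agent.PoincareLib.Points
import Groth.Agent.WeilAVLib.Eff
import Groth.Agent.S7885
import Groth.Agent.CurveLib.GlobalFun

/-!
# Classes trivial away from finitely many translates of a closed irreducible set
-/

set_option autoImplicit false
set_option backward.isDefEq.respectTransparency false
set_option linter.style.haveILetI false
set_option synthInstance.maxHeartbeats 400000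
set_option maxHeartbeats 1000000

universe u

open CategoryTheory CategoryTheory.Limits MonoidalCategory CartesianMonoidalCategory MonObj AlgebraicGeometry
open TopologicalSpace
open Groth.Agent.PicLib Groth.Agent.AVLib Groth.Agent.AmpleLib

noncomputable section

namespace Groth.Agent.PicAVLib

variable {K : Type u} [Field K] [IsAlgClosed K]

local notation "SK" => Spec (CommRingCat.of K)

/-- The closed point of a rational point. -/
def pnt {Z : Over (Spec (CommRingCat.of K))} (a : 𝟙_ (Over (Spec (CommRingCat.of K))) ⟶ Z) : Z.left :=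
  a.left (IsLocalRing.closedPoint K)

theorem comp_pnt {Z Y : Over SK} (a : 𝟙_ (Over SK) ⟶ Z) (f : Z ⟶ Y) : pnt (a ≫ f) = f.left (pnt a) :=
  Scheme.Hom.comp_apply a.left f.left (IsLocalRing.closedPoint K)

theorem exists_pnt_mem {Z : Over SK} [LocallyOfFiniteType Z.hom] {S : Set Z.left} (hS : IsLocallyClosed S)
    (hne : S.Nonempty) : ∃ q : 𝟙_ (Over SK) ⟶ Z, pnt q ∈ S := by
  haveI : JacobsonSpace Z.left := LocallyOfFiniteType.jacobsonSpace Z.hom
  obtain ⟨z, hz, hzc⟩ := nonempty_inter_closedPoints hne hS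
  obtain ⟨q, hq⟩ := exists_ratPt (mem_closedPoints_iff.1 hzc)
  refine ⟨q, ?_⟩
  rw [show pnt q = z from hq]
  exact hz

/-- Containment of closed sets is seen on rational points. -/
theorem subset_of_pnts {Z : Over SK} [LocallyOfFiniteType Z.hom] {S S' : Set Z.left} (hS : IsLocallyClosed S)
    (hS' : IsClosed S') (h : ∀ q : 𝟙_ (Over SK) ⟶ Z, pnt q ∈ S → pnt q ∈ S') : S ⊆ S' := fun x hx => by
  by_contra hx'
  obtain ⟨q, hq, hq'⟩ := exists_pnt_mem (hS.inter hS'.isOpen_compl.isLocallyClosed) ⟨x, hx, hx'⟩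
  exact hq' (h q hq)

variable {A : Over (Spec (CommRingCat.of K))} [GrpObj A] [IsProper A.hom] [GeometricallyIntegral A.hom]

theorem pnt_trR (b a : 𝟙_ (Over SK) ⟶ A) : (trR a).left (pnt b) = pnt (b * a) := by
  rw [← comp_pnt, comp_trR, toUnit_unique (toUnit _) (𝟙 _), Category.id_comp]

theorem trR_one' : trR (1 : 𝟙_ (Over SK) ⟶ A) = 𝟙 A := by
  rw [trR, MonObj.comp_one, _root_.mul_one]

theorem trR_trR_apply (a b : 𝟙_ (Over SK) ⟶ A) (x : A.left) :
    (trR b).left ((trR a).left x) = (trR (a * b)).left x := by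
  haveI := isCommMonObj (A := A)
  rw [← PoincareLib.trR_comp_trR, Over.comp_left, Scheme.Hom.comp_apply]

theorem trR_inv_apply (a : 𝟙_ (Over SK) ⟶ A) (x : A.left) : (trR a⁻¹).left ((trR a).left x) = x := by
  rw [trR_trR_apply, mul_inv_cancel, trR_one']
  rfl

theorem trR_apply_inv (a : 𝟙_ (Over SK) ⟶ A) (x : A.left) : (trR a).left ((trR a⁻¹).left x) = x := by
  rw [trR_trR_apply, inv_mul_cancel, trR_one']
  rfl

/-- The translate of a set. -/
def tset (a : 𝟙_ (Over (Spec (CommRingCat.of K))) ⟶ A) (S : Set A.left) : Set A.left := (trR a⁻¹).left ⁻¹' S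

theorem mem_tset {a : 𝟙_ (Over SK) ⟶ A} {S : Set A.left} {x : A.left} :
    x ∈ tset a S ↔ (trR a⁻¹).left x ∈ S := Iff.rfl

theorem trR_mem_tset {a : 𝟙_ (Over SK) ⟶ A} {S : Set A.left} {x : A.left} :
    (trR a).left x ∈ tset a S ↔ x ∈ S := by
  rw [mem_tset, trR_inv_apply]

theorem pnt_mem_tset {a b : 𝟙_ (Over SK) ⟶ A} {S : Set A.left} : pnt b ∈ tset a S ↔ pnt (b * a⁻¹) ∈ S := by
  rw [mem_tset, pnt_trR]

theorem isClosed_tset (a : 𝟙_ (Over SK) ⟶ A) {S : Set A.left} (hS : IsClosed S) : IsClosed (tset a S) :=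
  hS.preimage (trR a⁻¹).left.continuous

theorem pull_trR_eq (w : Pic A.left) (b : 𝟙_ (Over SK) ⟶ A) :
    pull (trR b).left w = w * PoincareLib.phi w b := by
  haveI := isCommMonObj (A := A)
  rw [PoincareLib.phi_apply, mul_div_cancel]

/-- A power of the class of an effective divisor is invariant only when it is trivial. -/
theorem zpow_eq_one_of_invariant {L : A.left.Modules} (hL : PicF.IsInvertible L)
    (σ : Coh.structureModule A.left ⟶ L) (hσ : (CohB1.genLocus L σ : Set A.left).Nonempty) (m : ℤ)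
    (h : ∀ a, pull (trR a).left (cls hL ^ m) = cls hL ^ m) : cls hL ^ m = 1 := by
  haveI := isCommMonObj (A := A)
  have key : ∀ n : ℕ, (∀ a, pull (trR a).left (cls hL ^ n) = cls hL ^ n) → cls hL ^ n = 1 := by
    intro n hn
    rcases n with - | n
    · exact pow_zero _
    have hM := isInvertible_tensorPow hL (n + 1)
    have hne : (CohB1.genLocus _ (powS σ (n + 1)) : Set A.left).Nonempty := by rw [genLocus_powS hL]; exact hσ
    have h0 : powS σ (n + 1) ≠ 0 := fun h0 => by
      obtain ⟨x, hx⟩ := hne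
      rw [h0] at hx
      rw [SetLike.mem_coe, mem_genLocus_iff hM] at hx
      have h1 : sec (0 : Coh.structureModule A.left ⟶ CohB1.tensorPow L (n + 1)) = 0 := rfl
      rw [h1, map_zero] at hx
      have h2 := hx.1 (show (1 : A.left.presheaf.stalk x) • (0 : (CohB1.tensorPow L (n + 1)).presheaf.stalk x) =
        (0 : A.left.presheaf.stalk x) • 0 by rw [smul_zero, smul_zero])
      exact one_ne_zero h2
    have h1 := pull_mul_of_invariant (c := cls hM) (by rwa [cls_tensorPow hL]) (𝟙 A) (𝟙 A)⁻¹
    rw [mul_inv_cancel, AVLib.pull_one, Over.id_left, pull_id] at h1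
    haveI := WeilAVLib.isIso_of_mul_inv_eq_one hM _ h0 h1.symm
    rw [← cls_tensorPow hL]
    exact (cls_eq_one hM).2 ⟨(asIso (powS σ (n + 1))).symm⟩
  rcases Int.eq_nat_or_neg m with ⟨n, rfl | rfl⟩
  · rw [zpow_natCast] at h ⊢
    exact key n h
  · rw [zpow_neg, zpow_natCast] at h ⊢
    rw [inv_eq_one]
    exact key n fun a => inv_injective ((map_inv _ _).symm.trans (h a))

/-- Classes trivial away from translates of `W` are, up to `φ_w`, powers of `w`. -/
theorem exists_translates_class [IsCommMonObj A] {W : Set A.left} (hW : IsClosed W) (hWi : IsIrreducible W) (hne : W ≠ Set.univ) :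
    ∃ (L : A.left.Modules) (hL : PicF.IsInvertible L) (σ : Coh.structureModule A.left ⟶ L),
      (CohB1.genLocus L σ : Set A.left).Nonempty ∧
      ∀ (S : Finset (𝟙_ (Over (Spec (CommRingCat.of K))) ⟶ A)) (e : Pic A.left),
        (∀ U : A.left.Opens, (∀ s ∈ S, Disjoint (U : Set A.left) (tset s W)) → pull U.ι e = 1) →
        ∃ (k : ℤ) (u : 𝟙_ (Over (Spec (CommRingCat.of K))) ⟶ A),
          e = cls hL ^ k * PoincareLib.phi (cls hL) u := by
  classical
  haveI : Subsingleton ↥SK := inferInstanceAs (Subsingleton (PrimeSpectrum K))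
  haveI : IsIntegral A.left := GeometricallyIntegral.isIntegral_of_subsingleton A.hom
  haveI : IsLocallyNoetherian A.left := LocallyOfFiniteType.isLocallyNoetherian A.hom
  haveI : A.left.IsSeparated := ⟨by rw [← terminal.comp_from A.hom]; infer_instance⟩
  haveI : LocallyOfFinitePresentation A.hom := inferInstance
  haveI : Flat A.hom := inferInstance
  haveI : GeometricallyReduced A.hom := inferInstance
  letI : A.left.Over SK := ⟨A.hom⟩
  haveI : Smooth (A.left ↘ SK) := S7795.result A
  have hreg : ∀ x : A.left, IsRegularLocalRing (A.left.presheaf.stalk x) := fun x =>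
    CurveLib.isRegularLocalRing_stalk_of_smooth (k := K) (X := A.left) x
  have hnor : ∀ x : A.left, IsDomain (A.left.presheaf.stalk x) ∧ IsIntegrallyClosed (A.left.presheaf.stalk x) :=
    fun x => by
      haveI := hreg x
      haveI := RegLocal.ufd (A.left.presheaf.stalk x)
      exact ⟨inferInstance, inferInstance⟩
  have hcodim : ∀ (e : Pic A.left) (U : A.left.Opens), (∀ x, x ∉ U → 2 ≤ ringKrullDim (A.left.presheaf.stalk x)) →
      pull U.ι e = 1 → e = 1 := by
    intro e U hU he
    obtain ⟨M, hM, rfl⟩ := exists_cls e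
    rw [pull_cls, cls_eq_one] at he
    obtain ⟨i⟩ := he
    exact (cls_eq_one hM).2 ((S7885.result A.left hnor U hU M hM).2
      ⟨(Scheme.Modules.restrictFunctorIsoPullback U.ι).app M ≪≫ i⟩)
  obtain ⟨ξ, hξ⟩ := QuasiSober.sober hWi hW
  have hξgen : ξ ≠ genericPoint A.left := fun h => hne (by rw [← hξ.def, h, (genericPoint_spec A.left).def])
  by_cases hd : 2 ≤ ringKrullDim (A.left.presheaf.stalk ξ)
  · -- small sets change nothing
    obtain ⟨L, hL, σ, hσ⟩ : ∃ (L : A.left.Modules) (_ : PicF.IsInvertible L) (σ : Coh.structureModule A.left ⟶ L),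
        (CohB1.genLocus L σ : Set A.left).Nonempty := ⟨_, ParaFLib.isInvertible_structureModule, 𝟙 _,
      by rw [genLocus_id]; exact ⟨genericPoint A.left, trivial⟩⟩
    refine ⟨L, hL, σ, hσ, fun S e he => ⟨0, 1, ?_⟩⟩
    rw [map_one, _root_.mul_one, zpow_zero]
    let U : A.left.Opens := ⟨(⋃ s ∈ S, tset s W)ᶜ,
      (S.finite_toSet.isClosed_biUnion fun s _ => isClosed_tset s hW).isOpen_compl⟩
    refine hcodim e U (fun x hx => ?_) (he U fun s hs => Set.disjoint_left.2 fun x hx hxs =>
      hx (Set.mem_biUnion (x := s) hs hxs))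
    obtain ⟨s, -, hxs⟩ := Set.mem_iUnion₂.1 (not_not.1 hx)
    have hsp : (trR s).left ξ ⤳ x := by
      rw [← trR_apply_inv s x]
      exact (hξ.specializes hxs).map (trR s).left.continuous
    have e1 : ringKrullDim (A.left.presheaf.stalk ((trR s).left ξ)) = ringKrullDim (A.left.presheaf.stalk ξ) :=
      ringKrullDim_eq_of_ringEquiv (asIso ((trR s).left.stalkMap ξ)).commRingCatIsoToRingEquiv
    refine le_trans ?_ (le_of_eq_of_le e1.symm ?_)
    · exact hd
    · rw [ringKrullDim_stalk_eq_coheight, ringKrullDim_stalk_eq_coheight]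
      exact WithBot.coe_le_coe.2 (Order.coheight_anti (show x ≤ (trR s).left ξ from hsp))
  -- a prime divisor
  have hdim : ∀ (s : 𝟙_ (Over SK) ⟶ A) (x : A.left), x ∈ tset s W → x ≠ (trR s).left ξ →
      2 ≤ ringKrullDim (A.left.presheaf.stalk x) := by
    intro s x hx hxne
    have h1 : (trR s).left ξ ⤳ x := by
      rw [← trR_apply_inv s x]
      exact (hξ.specializes hx).map (trR s).left.continuous
    have h2 : (trR s).left ξ ≠ genericPoint A.left := fun h => hξgen (by
      have h' := congrArg (trR s⁻¹).left h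
      rw [trR_inv_apply] at h'
      rw [h']
      exact map_genericPoint_of_surjective (trR s⁻¹).left)
    have l1 : x < (trR s).left ξ := lt_of_le_not_ge h1 fun h => hxne (Specializes.antisymm h h1).eq
    have l2 : (trR s).left ξ < genericPoint A.left :=
      lt_of_le_not_ge ((genericPoint_spec A.left).specializes trivial) fun h =>
        h2 (Specializes.antisymm h ((genericPoint_spec A.left).specializes trivial)).eq
    have c1 := Order.coheight_add_one_le l1
    have c2 := Order.coheight_add_one_le l2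
    have hc : (2 : ℕ∞) ≤ Order.coheight x := by
      refine le_trans ?_ c1
      calc (2 : ℕ∞) = 0 + 1 + 1 := rfl
        _ ≤ Order.coheight (genericPoint A.left) + 1 + 1 := by gcongr; exact bot_le
        _ ≤ Order.coheight ((trR s).left ξ) + 1 := by gcongr
    rw [ringKrullDim_stalk_eq_coheight]
    exact WithBot.coe_le_coe.2 hc
  have hd1 : ringKrullDim (A.left.presheaf.stalk ξ) ≤ 1 := by
    rw [ringKrullDim_stalk_eq_coheight] at hd ⊢
    have h' : ¬ (2 : ℕ∞) ≤ Order.coheight ξ := fun h => hd (WithBot.coe_le_coe.2 h)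
    exact WithBot.coe_le_coe.2 (Order.le_of_lt_add_one (lt_of_not_ge h'))
  obtain ⟨L, hL, σ, hgl, hlem⟩ := exists_extend_class hreg hW hξ hne hd1
  let w := cls hL
  have hσne : (CohB1.genLocus L σ : Set A.left).Nonempty := by
    rw [hgl, Set.nonempty_compl]; exact hne
  refine ⟨L, hL, σ, hσne, ?_⟩
  have hw : ∀ U : A.left.Opens, Disjoint (U : Set A.left) W → pull U.ι w = 1 := fun U hU => by
    have hle : U ≤ CohB1.genLocus L σ := fun y hy => by
      rw [← SetLike.mem_coe, hgl]
      exact Set.disjoint_left.1 hU hy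
    exact pull_ι_eq_one_of_gen hL U ((AmpleLib.gen_genLocus hL σ).res hle)
  have hwb : ∀ (b : 𝟙_ (Over SK) ⟶ A) (U : A.left.Opens), Disjoint (U : Set A.left) (tset b W) →
      pull U.ι (pull (trR b⁻¹).left w) = 1 := fun b U hU => by
    let O : A.left.Opens := ⟨Wᶜ, hW.isOpen_compl⟩
    have hle : U ≤ (trR b⁻¹).left ⁻¹ᵁ O := fun y hy => Set.disjoint_left.1 hU hy
    rw [← pull_comp, ← Scheme.Hom.resLE_comp_ι (trR b⁻¹).left hle, pull_comp, hw O disjoint_compl_left, map_one]
  letI : CommGroup (𝟙_ (Over SK) ⟶ A) := by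
    haveI := isCommMonObj (A := A)
    exact Hom.commGroup
  have main : ∀ (S : Finset (𝟙_ (Over SK) ⟶ A)) (U : A.left.Opens) (e : Pic A.left),
      (U : Set A.left).Nonempty → (∀ x, x ∉ U → 2 ≤ ringKrullDim (A.left.presheaf.stalk x) ∨ ∃ s ∈ S, x ∈ tset s W) →
      pull U.ι e = 1 → ∃ (k : ℤ) (u : 𝟙_ (Over SK) ⟶ A), e = w ^ k * PoincareLib.phi w u := by
    intro S
    induction S using Finset.induction_on with
    | empty =>
      intro U e _ hU he
      refine ⟨0, 1, ?_⟩
      rw [map_one, _root_.mul_one, zpow_zero]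
      exact hcodim e U (fun x hx => (hU x hx).resolve_right (by rintro ⟨s, hs, -⟩; exact absurd hs (Finset.notMem_empty s))) he
    | @insert s S hs ih =>
      intro U e hUne hU he
      let U0 : A.left.Opens := U ⊓ ⟨(tset s W)ᶜ, (isClosed_tset s hW).isOpen_compl⟩
      let U1 : A.left.Opens := (trR s).left ⁻¹ᵁ U0
      have hU0ne : (U0 : Set A.left).Nonempty := by
        refine nonempty_preirreducible_inter U.2 (isClosed_tset s hW).isOpen_compl hUne ?_
        obtain ⟨y, hy⟩ := Set.nonempty_compl.2 hne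
        exact ⟨(trR s).left y, fun h => hy (trR_mem_tset.1 h)⟩
      have hU1 : Disjoint (U1 : Set A.left) W := Set.disjoint_left.2 fun y hy hyW => hy.2 (trR_mem_tset.2 hyW)
      have he0 : pull U0.ι e = 1 := by
        rw [← Scheme.homOfLE_ι A.left (inf_le_left : U0 ≤ U), pull_comp, he, map_one]
      have he1 : pull U1.ι (pull (trR s).left e) = 1 := by
        rw [← pull_comp, ← Scheme.Hom.resLE_comp_ι (trR s).left (le_refl U1), pull_comp, he0, map_one]
      obtain ⟨k, U2, hU12, hξU2, hk⟩ := hlem (pull (trR s).left e) U1 hU1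
        (hU0ne.preimage (trR s).left.surjective) he1
      let V : A.left.Opens := (trR s⁻¹).left ⁻¹ᵁ U2
      have hV : pull V.ι (e * pull (trR s⁻¹).left w ^ k) = 1 := by
        have h1 : pull V.ι (pull (trR s⁻¹).left (pull (trR s).left e * w ^ k)) = 1 := by
          rw [← pull_comp, ← Scheme.Hom.resLE_comp_ι (trR s⁻¹).left (le_refl V), pull_comp, hk, map_one]
        rw [map_mul, map_zpow, pull_left_comp, AVLib.comp_trR] at h1
        have h2 : trR s⁻¹ ≫ trR s = 𝟙 A := by
          rw [PoincareLib.trR_comp_trR, inv_mul_cancel, trR_one']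
        rw [← AVLib.comp_trR, h2, Over.id_left, pull_id] at h1
        exact h1
      have hle : U0 ≤ V := fun y hy => hU12 (show (trR s).left ((trR s⁻¹).left y) ∈ U0 by rwa [trR_apply_inv])
      have hcov : ∀ x, x ∉ V → 2 ≤ ringKrullDim (A.left.presheaf.stalk x) ∨ ∃ t ∈ S, x ∈ tset t W := by
        intro x hx
        have hx0 : x ∉ U0 := fun h => hx (hle h)
        by_cases hxs : x ∈ tset s W
        · refine Or.inl (hdim s x hxs fun h => hx ?_)
          show (trR s⁻¹).left x ∈ U2
          rw [h, trR_inv_apply]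
          exact hξU2
        · rcases hU x (fun h => hx0 ⟨h, hxs⟩) with h | ⟨t, ht, hxt⟩
          · exact Or.inl h
          · rcases Finset.mem_insert.1 ht with rfl | ht'
            · exact absurd hxt hxs
            · exact Or.inr ⟨t, ht', hxt⟩
      obtain ⟨j, u, hju⟩ := ih V _ (hU0ne.mono hle) hcov hV
      refine ⟨j - k, u * s ^ k, ?_⟩
      rw [pull_trR_eq, _root_.mul_zpow, ← map_zpow, inv_zpow, map_inv] at hju
      rw [map_mul, zpow_sub, eq_mul_inv_of_mul_eq hju, mul_inv, _root_.inv_inv]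
      ac_rfl
  intro S e he
  let U : A.left.Opens := ⟨(⋃ s ∈ S, tset s W)ᶜ,
    (S.finite_toSet.isClosed_biUnion fun s _ => isClosed_tset s hW).isOpen_compl⟩
  refine main S U e ?_ (fun x hx => Or.inr ?_) (he U fun s hs => Set.disjoint_left.2 fun x hx hxs =>
    hx (Set.mem_biUnion (x := s) hs hxs))
  · have hd : ∀ s ∈ S, genericPoint A.left ∉ tset s W := fun s _ h => hne (Set.eq_univ_of_forall fun y => by
      have h1 := ((genericPoint_spec A.left).specializes trivial).mem_closed (y := (trR s).left y)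
        (isClosed_tset s hW) h
      exact trR_mem_tset.1 h1)
    exact ⟨genericPoint A.left, fun h => by
      obtain ⟨s, hs, hg⟩ := Set.mem_iUnion₂.1 h
      exact hd s hs hg⟩
  · obtain ⟨s, hs, hxs⟩ := Set.mem_iUnion₂.1 (not_not.1 hx)
    exact ⟨s, hs, hxs⟩

end Groth.Agent.PicAVLib
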