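import Groth.Agent.PicAVLib.Proper
import Groth.Agent.PicAVLib.Translates
import Groth.Agent.WeilAVLib.AlgZero
import Groth.Agent.PoincareLib.Reduce
import Groth.Agent.AVLib.Isog
import Groth.Agent.AVLib.Points
import Groth.Agent.MonoFibre.RigidityProper
import Groth.Agent.AVHomLib.Main

/-!
# The dual abelian variety over an algebraically closed field
-/

set_option autoImplicit false
set_option backward.isDefEq.respectTransparency false
set_option linter.style.haveILetI false
set_option synthInstance.maxHeartbeats 400000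
set_option maxHeartbeats 1000000

universe u

open CategoryTheory CategoryTheory.Limits MonoidalCategory CartesianMonoidalCategory MonObj AlgebraicGeometry
open Groth.Agent.PicLib
open Groth.Agent.AVLib (trR defect)
open Groth.Agent.PoincareLib (phi phi_apply phi_eq_one)

noncomputable section

namespace Groth.Agent.PicAVLib

open GrpSchLib (idComp unitPt)

variable {K : Type u} [Field K]

local notation "SK" => Spec (CommRingCat.of K)

/-- A class pulled back through a rational point is trivial. -/
theorem pull_point_eq_one {V Z : Over SK} (b : 𝟙_ (Over SK) ⟶ Z) (c : Pic Z.left) :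
    pull (toUnit V ≫ b).left c = 1 := by
  haveI : IsLocalRing (CommRingCat.of K) := inferInstanceAs (IsLocalRing K)
  rw [Over.comp_left, pull_comp, show pull b.left c = 1 from eq_one_of_local (R := CommRingCat.of K) _, map_one]

/-- A morphism from a reduced scheme into the image of a closed immersion factors through it. -/
theorem exists_factor_of_range {V N Z : Over SK} (i : N ⟶ Z) [IsClosedImmersion i.left] [IsReduced V.left]
    (g : V ⟶ Z) (h : Set.range g.left ⊆ Set.range i.left) : ∃ g₀ : V ⟶ N, g₀ ≫ i = g := by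
  haveI : Surjective (pullback.fst g.left i.left) := ⟨fun p => by
    obtain ⟨q, hq⟩ := h ⟨p, rfl⟩
    obtain ⟨z, hz, -⟩ := Scheme.Pullback.exists_preimage_pullback p q hq.symm
    exact ⟨z, hz⟩⟩
  haveI : IsIso (pullback.fst g.left i.left) := isIso_of_isClosedImmersion_of_surjective _
  let m : V.left ⟶ N.left := inv (pullback.fst g.left i.left) ≫ pullback.snd g.left i.left
  have hm : m ≫ i.left = g.left := by
    rw [Category.assoc, ← pullback.condition, IsIso.inv_hom_id_assoc]
  exact ⟨Over.homMk m (by rw [← Over.w i, ← Category.assoc, hm, Over.w]), Over.OverMorphism.ext hm⟩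

variable [IsAlgClosed K]

theorem dim_kernel_of_isFinite {X Y : Over SK} [GrpObj X] [GrpObj Y] (f : X ⟶ Y) [IsMonHom f] [IsFinite f.left] :
    topologicalKrullDim ↥(pullback f.left η[Y].left) = 0 := by
  haveI : Subsingleton ↥SK := inferInstanceAs (Subsingleton (PrimeSpectrum K))
  haveI : DiscreteTopology ↥(pullback f.left η[Y].left) := by
    have hd := (pullback.snd f.left η[Y].left).isDiscrete_preimage_singleton (IsLocalRing.closedPoint K)
    have huniv : (pullback.snd f.left η[Y].left) ⁻¹' {IsLocalRing.closedPoint K} = Set.univ := by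
      ext w
      simpa using Subsingleton.elim (α := PrimeSpectrum K) _ _
    rw [huniv] at hd
    exact isDiscrete_univ_iff.1 hd
  haveI : Nonempty ↥(pullback f.left η[Y].left) :=
    ⟨(pullback.lift η[X].left (𝟙 _) (by
      rw [← Over.comp_left, IsMonHom.one_hom, Category.id_comp]) : _ ⟶ pullback f.left η[Y].left)
      (IsLocalRing.closedPoint K)⟩
  exact ASp.topologicalKrullDim_eq_zero_of_discrete ↥(pullback f.left η[Y].left)

/-- Rational points are determined by their closed points. -/
theorem eq_of_pnt {Z : Over SK} [LocallyOfFiniteType Z.hom] {a b : 𝟙_ (Over SK) ⟶ Z} (h : pnt a = pnt b) :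
    a = b := by
  ext1
  exact congrArg Subtype.val ((pointEquivClosedPoint Z.hom).injective
    (a₁ := ⟨a.left, Over.w a⟩) (a₂ := ⟨b.left, Over.w b⟩) (Subtype.ext h))

variable {A : Over (Spec (CommRingCat.of K))} [GrpObj A]
  [IsProper A.hom] [GeometricallyIntegral A.hom] {P : Over (Spec (CommRingCat.of K))} [GrpObj P]

/-- The class on `A` of a rational point of the Picard scheme. -/
def PicRep.cl (D : PicRep A P) : (𝟙_ (Over (Spec (CommRingCat.of K))) ⟶ P) →* Pic A.left :=
  (pull (lift (𝟙 A) (toUnit A)).left).comp (D.clsOf A (𝟙_ _))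

theorem PicRep.cl_comp (D : PicRep A P) {T : Over SK} (t : 𝟙_ (Over SK) ⟶ T) (g : T ⟶ P) :
    D.cl (t ≫ g) = pull (lift (𝟙 A) (toUnit A ≫ t)).left (pull (A ◁ g).left D.uni) := by
  show pull (lift (𝟙 A) (toUnit A)).left (pull (A ◁ (t ≫ g)).left D.uni) = _
  rw [← pull_comp, ← pull_comp, ← Over.comp_left, ← Over.comp_left, lift_whiskerLeft, lift_whiskerLeft,
    Category.assoc]

theorem PicRep.cl_injective (D : PicRep A P) : Function.Injective D.cl := by
  intro x y h
  refine D.inj x y ?_
  have e : fst A (𝟙_ _) ≫ lift (𝟙 A) (toUnit A) = 𝟙 _ :=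
    CartesianMonoidalCategory.hom_ext _ _ (by simp) (toUnit_unique _ _)
  have h' := congrArg (pull (fst A (𝟙_ (Over SK))).left) h
  change pull _ (pull (lift (𝟙 A) (toUnit A)).left _) = pull _ (pull (lift (𝟙 A) (toUnit A)).left _) at h'
  simp only [← pull_comp, ← Over.comp_left] at h'
  rw [e] at h'
  simp only [Over.id_left, pull_id] at h'
  exact h'

theorem PicRep.cl_surjective (D : PicRep A P) : Function.Surjective D.cl := by
  intro c
  obtain ⟨g, hg⟩ := D.surj (𝟙_ _) (pull (fst A _).left c) (by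
    rw [← pull_comp, ← Over.comp_left, rigPt, lift_fst]
    exact pull_point_eq_one _ _)
  refine ⟨g, ?_⟩
  show pull (lift (𝟙 A) (toUnit A)).left (pull (A ◁ g).left D.uni) = c
  rw [hg, ← pull_comp, ← Over.comp_left, lift_fst, Over.id_left, pull_id]

variable [IsSeparated P.hom] [LocallyOfFiniteType P.hom]

/-- The homomorphism to the Picard scheme attached to a class. -/
theorem PicRep.exists_phiHom (D : PicRep A P) (c : Pic A.left) :
    ∃ φ : A ⟶ P, IsMonHom φ ∧ ∀ a, D.cl (a ≫ φ) = phi c a := by
  obtain ⟨φ, hφ⟩ := D.surj A (defect c (fst A A) (snd A A)) (by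
    rw [AVLib.pull_defect, rigPt, lift_fst, lift_snd, ← Hom.one_def, AVLib.one_defect])
  have hsl : ∀ a, D.cl (a ≫ φ) = phi c a := fun a => by
    rw [D.cl_comp, hφ, AVLib.pull_defect, lift_fst, lift_snd, defect, phi_apply, Over.id_left, pull_id,
      pull_point_eq_one, _root_.mul_one]
    rfl
  refine ⟨φ, MonoFibre.Rigidity.isMonHom_of_proper φ (D.cl_injective ?_), hsl⟩
  have e : ∀ (G : Over SK) [GrpObj G], η[G] = (1 : 𝟙_ (Over SK) ⟶ G) := fun G _ => by
    rw [Hom.one_def, toUnit_unique (toUnit _) (𝟙 _), Category.id_comp]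
  rw [hsl, e, e, map_one, map_one]

variable {N : Over (Spec (CommRingCat.of K))} [GrpObj N] [IsProper N.hom] [GeometricallyIntegral N.hom]
  (i : N ⟶ P) [IsMonHom i] [IsClosedImmersion i.left]

theorem mem_range_of_connected (hr : Set.range i.left = idComp P) {T : Over SK} [ConnectedSpace T.left]
    (g : T ⟶ P) (t : T.left) (ht : g.left t = unitPt P) : Set.range g.left ⊆ Set.range i.left := by
  rw [hr, idComp, ← GrpSchLib.connectedComponent_eq]
  exact (isPreconnected_range g.left.continuous).subset_connectedComponent ⟨t, ht⟩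

/-- A pointed morphism from an abelian variety lands in the identity component. -/
theorem exists_lift_hom (hr : Set.range i.left = idComp P) (φ : A ⟶ P) [IsMonHom φ] :
    ∃ φ₀ : A ⟶ N, IsMonHom φ₀ ∧ φ₀ ≫ i = φ := by
  haveI : Subsingleton ↥SK := inferInstanceAs (Subsingleton (PrimeSpectrum K))
  haveI : IsIntegral A.left := GeometricallyIntegral.isIntegral_of_subsingleton A.hom
  have h1 : φ.left (unitPt A) = unitPt P := by
    show φ.left (η[A].left _) = η[P].left _
    rw [← Scheme.Hom.comp_apply, ← Over.comp_left, IsMonHom.one_hom]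
  obtain ⟨φ₀, h⟩ := exists_factor_of_range i φ (mem_range_of_connected i hr φ _ h1)
  haveI : Mono i := (Over.forget _).mono_of_mono_map (show Mono i.left by infer_instance)
  refine ⟨φ₀, MonoFibre.Rigidity.isMonHom_of_proper φ₀ ?_, h⟩
  rw [← cancel_mono i, Category.assoc, h, IsMonHom.one_hom, IsMonHom.one_hom]

/-- Algebraic equivalence to zero means lying on the identity component. -/
theorem PicRep.isAlgEquivZero_iff (D : PicRep A P) (hr : Set.range i.left = idComp P)
    {M : A.left.Modules} (hM : PicF.IsInvertible M) :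
    @Pic13.IsAlgEquivZero K _ A.left ⟨A.hom⟩ M ↔
      ∃ x : 𝟙_ (Over (Spec (CommRingCat.of K))) ⟶ N, D.cl (x ≫ i) = cls hM := by
  letI : A.left.Over SK := ⟨A.hom⟩
  have hslice : ∀ (T : Over SK) (t : 𝟙_ (Over SK) ⟶ T),
      (lift (𝟙 A) (toUnit A ≫ t)).left = Pic13.sliceAt K A.left T.hom t.left (Over.w t) := fun T t => by
    apply pullback.hom_ext
    · refine (congrArg CommaMorphism.left (lift_fst (𝟙 A) (toUnit A ≫ t))).trans ?_
      exact (pullback.lift_fst _ _ _).symm
    · refine (congrArg CommaMorphism.left (lift_snd (𝟙 A) (toUnit A ≫ t))).trans ?_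
      exact (pullback.lift_snd _ _ _).symm
  constructor
  · rintro ⟨T₀, q, hconn, hlft, -, W, hW, t, t₀, ht, ht₀, hL, h0⟩
    let T : Over SK := Over.mk q
    haveI : ConnectedSpace T.left := hconn
    haveI : LocallyOfFiniteType T.hom := hlft
    let w : 𝟙_ (Over SK) ⟶ T := Over.homMk t ht
    let w₀ : 𝟙_ (Over SK) ⟶ T := Over.homMk t₀ ht₀
    let m : Pic (A ⊗ T).left := cls (L := W) hW
    obtain ⟨g, hg⟩ := D.surj T (m / pull (snd A T).left (pull (rigPt A T).left m)) (by
      rw [map_div, ← pull_comp (rigPt A T).left (snd A T).left, ← Over.comp_left, rigPt, lift_snd, Over.id_left,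
        pull_id, div_self'])
    have hcl : ∀ (v : 𝟙_ (Over SK) ⟶ T), D.cl (v ≫ g) = pull (lift (𝟙 A) (toUnit A ≫ v)).left m := fun v => by
      rw [D.cl_comp, hg, map_div, ← pull_comp _ (snd A T).left, ← Over.comp_left, lift_snd, pull_point_eq_one, div_one]
    have hw : D.cl (w ≫ g) = cls hM := by
      rw [hcl, hslice, pull_cls]
      exact (cls_eq_cls _ _).2 hL
    have hw₀ : w₀ ≫ g = 1 := D.cl_injective (by
      rw [hcl, hslice, pull_cls, map_one, cls_eq_one]
      exact h0)
    have hmem : pnt (w ≫ g) ∈ Set.range i.left := by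
      refine mem_range_of_connected i hr g (pnt w₀) ?_ ⟨pnt w, (comp_pnt w g).symm⟩
      rw [← comp_pnt, hw₀, Hom.one_def, toUnit_unique (toUnit _) (𝟙 _), Category.id_comp]
      rfl
    obtain ⟨x, hx⟩ := exists_pnt_mem (Z := N) (S := i.left ⁻¹' {pnt (w ≫ g)})
      (by
        haveI : JacobsonSpace P.left := LocallyOfFiniteType.jacobsonSpace P.hom
        exact ((pointEquivClosedPoint P.hom ⟨(w ≫ g).left, Over.w (w ≫ g)⟩).2.preimage
          i.left.continuous).isLocallyClosed) hmem
    refine ⟨x, ?_⟩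
    rw [eq_of_pnt (a := x ≫ i) (b := w ≫ g) ((comp_pnt x i).trans hx), hw]
  · rintro ⟨x, hx⟩
    haveI : Subsingleton ↥SK := inferInstanceAs (Subsingleton (PrimeSpectrum K))
    haveI : IsIntegral N.left := GeometricallyIntegral.isIntegral_of_subsingleton N.hom
    obtain ⟨W, hW, hWc⟩ := exists_cls (pull (A ◁ i).left D.uni)
    refine ⟨N.left, N.hom, inferInstance, inferInstance, inferInstance, W, hW, x.left, η[N].left, Over.w x,
      Over.w η[N], (cls_eq_cls (AmpleLib.isInvertible_pullback _ hW) hM).1 ?_,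
      (cls_eq_one (AmpleLib.isInvertible_pullback _ hW)).1 ?_⟩
    · rw [← hx, D.cl_comp, ← hWc, hslice, pull_cls]
    · have h := D.cl_comp η[N] i
      rw [← hWc, hslice, pull_cls, IsMonHom.one_hom,
        show η[P] = (1 : 𝟙_ (Over SK) ⟶ P) by rw [Hom.one_def, toUnit_unique (toUnit _) (𝟙 _), Category.id_comp],
        map_one] at h
      exact h.symm

/-- Classes on the identity component are translation invariant. -/
theorem PicRep.invariant (D : PicRep A P) (hr : Set.range i.left = idComp P)
    (x : 𝟙_ (Over (Spec (CommRingCat.of K))) ⟶ N) (a : 𝟙_ (Over (Spec (CommRingCat.of K))) ⟶ A) :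
    pull (trR a).left (D.cl (x ≫ i)) = D.cl (x ≫ i) := by
  haveI := AVLib.isCommMonObj (A := A)
  obtain ⟨M, hM, hMc⟩ := exists_cls (D.cl (x ≫ i))
  have h := (D.isAlgEquivZero_iff i hr hM).2 ⟨x, hMc.symm⟩
  rw [← hMc]
  exact AVLib.pull_trR_of_additive
    ((AVLib.defect_eq_one_iff _ _ _).1 (WeilAVLib.defect_eq_one_of_isAlgEquivZero hM h _ _)) a

theorem pull_npow_of_invariant {c : Pic A.left} (hc : ∀ a : 𝟙_ (Over SK) ⟶ A, pull (trR a).left c = c) :
    ∀ n : ℕ, pull (𝟙 A ^ n).left c = c ^ n
  | 0 => by rw [pow_zero, pow_zero, AVLib.pull_one]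
  | n + 1 => by
    rw [pow_succ, pow_succ, AVLib.pull_mul_of_invariant hc, pull_npow_of_invariant hc n, Over.id_left, pull_id]

/-- The dual has dimension at most that of the variety. -/
theorem PicRep.dim_le (D : PicRep A P) (hr : Set.range i.left = idComp P) :
    topologicalKrullDim N.left ≤ topologicalKrullDim A.left := by
  haveI := AVLib.isCommMonObj (A := A)
  haveI := AVLib.isCommMonObj (A := N)
  obtain ⟨g, hg⟩ := AVLib.exists_dim (A := A)
  obtain ⟨n, hn⟩ := AVLib.exists_dim (A := N)
  obtain ⟨l, hl, hlk⟩ := AVHomLib.exists_prime_ne_zero (k := K)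
  obtain ⟨-, hcN⟩ := AVLib.natCard_pow_eq_one hn l hlk
  obtain ⟨hfin, hle⟩ := PoincareLib.finite_ker_pull_npow (A := A) l hlk
  rw [(AVLib.natCard_pow_eq_one hg l hlk).2] at hle
  haveI := hfin
  haveI : Mono i := (Over.forget _).mono_of_mono_map (show Mono i.left by infer_instance)
  have hinj : Nat.card {x : 𝟙_ (Over SK) ⟶ N // x ^ l = 1} ≤
      Nat.card {d : Pic A.left // pull (𝟙 A ^ l).left d = 1} := by
    refine Nat.card_le_card_of_injective (fun x => ⟨D.cl (x.1 ≫ i), ?_⟩) fun x y e => ?_
    · rw [pull_npow_of_invariant (D.invariant i hr x.1), ← map_pow, ← MonObj.pow_comp, x.2, MonObj.one_comp, map_one]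
    · exact Subtype.ext ((cancel_mono i).1 (D.cl_injective (congrArg Subtype.val e)))
  rw [hcN] at hinj
  have := (Nat.pow_le_pow_iff_right hl.one_lt).1 (hinj.trans hle)
  rw [hg, hn]
  exact WithBot.coe_le_coe.2 (by exact_mod_cast (show n ≤ g by omega))

/-- A class with finite stabiliser gives an isogeny onto the dual. -/
theorem PicRep.exists_isogeny (D : PicRep A P) (hr : Set.range i.left = idComp P) (c : Pic A.left)
    (hc : {a : 𝟙_ (Over (Spec (CommRingCat.of K))) ⟶ A | pull (trR a).left c = c}.Finite) :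
    ∃ φ₀ : A ⟶ N, IsMonHom φ₀ ∧ IsFinite φ₀.left ∧ Surjective φ₀.left ∧ ∀ a, D.cl (a ≫ φ₀ ≫ i) = phi c a := by
  classical
  haveI := AVLib.isCommMonObj (A := A)
  haveI := AVLib.isCommMonObj (A := N)
  obtain ⟨φ, hφ, hsl⟩ := D.exists_phiHom c
  haveI := hφ
  obtain ⟨φ₀, h₀, h₀i⟩ := exists_lift_hom i hr φ
  haveI := h₀
  letI : CommGroup (𝟙_ (Over SK) ⟶ A) := Hom.commGroup
  haveI : Finite (phi c).ker := Set.Finite.to_subtype (hc.subset fun a ha =>
    (phi_eq_one _ a).1 (MonoidHom.mem_ker.1 ha))
  haveI : IsFinite φ₀.left := by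
    refine PoincareLib.isFinite_of_finite_ker φ₀ (m := Nat.card (phi c).ker) Nat.card_pos fun z hz => ?_
    have hz' : z ∈ (phi c).ker := by
      rw [MonoidHom.mem_ker, ← hsl, ← h₀i, ← Category.assoc, hz, MonObj.one_comp, map_one]
    exact congrArg Subtype.val (pow_card_eq_one' (x := (⟨z, hz'⟩ : (phi c).ker)))
  have hle := D.dim_le i hr
  have hge : topologicalKrullDim A.left ≤ topologicalKrullDim N.left := by
    rw [GrpHomLib.dim_eq φ₀, dim_kernel_of_isFinite φ₀, add_zero]
    exact φ₀.left.isClosedMap.isClosed_range.isClosedEmbedding_subtypeVal.isInducing.topologicalKrullDim_le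
  exact ⟨φ₀, h₀, inferInstance, AVLib.surjective_of_isFinite φ₀ (le_antisymm hge hle), fun a => by rw [h₀i, hsl]⟩

end Groth.Agent.PicAVLib
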