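import Groth.Agent.PicAVLib.Gam
import Mathlib.Algebra.Algebra.Epi

/-!
# Coefficients of characters with parameters
-/

set_option autoImplicit false
set_option backward.isDefEq.respectTransparency false
set_option linter.style.haveILetI false
set_option synthInstance.maxHeartbeats 400000
set_option maxHeartbeats 1000000

universe u

open CategoryTheory CategoryTheory.Limits MonoidalCategory CartesianMonoidalCategory MonObj AlgebraicGeometry
open scoped TensorProduct

noncomputable section

namespace Groth.Agent.PicAVLib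

open GrpSchLib (spO spMap)

variable {K : Type u} [Field K]

section Coef

variable {R C : Type u} [CommRing R] [Algebra K R] [CommRing C] [Algebra K C]

/-- The coefficient of a tensor along a functional. -/
def coefL (x : R ⊗[K] C) : (R →ₗ[K] K) →ₗ[K] C where
  toFun ξ := TensorProduct.lid K C (ξ.rTensor C x)
  map_add' ξ ξ' := by rw [LinearMap.rTensor_add, LinearMap.add_apply, map_add]
  map_smul' a ξ := by rw [LinearMap.rTensor_smul, LinearMap.smul_apply, map_smul, RingHom.id_apply]

theorem coefL_tmul (r : R) (c : C) (ξ : R →ₗ[K] K) : coefL (r ⊗ₜ[K] c) ξ = ξ r • c := by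
  simp [coefL]

theorem eq_sum_coefL [Module.Finite K R] (x : R ⊗[K] C) :
    x = ∑ b, Module.finBasis K R b ⊗ₜ[K] coefL x ((Module.finBasis K R).coord b) := by
  induction x with
  | zero => simp [coefL]
  | add a b ha hb =>
    have e : ∀ ξ, coefL (a + b) ξ = coefL a ξ + coefL b ξ := fun ξ => by simp [coefL]
    simp only [e, TensorProduct.tmul_add, Finset.sum_add_distrib, ← ha, ← hb]
  | tmul r c =>
    simp only [coefL_tmul, ← TensorProduct.smul_tmul, ← TensorProduct.sum_tmul]
    rw [show ∑ b, (Module.finBasis K R).coord b r • Module.finBasis K R b = r from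
      (Module.finBasis K R).sum_repr r]

/-- Evaluation of a triple tensor along two functionals. -/
def coef2 (ξ η' : R →ₗ[K] K) : R ⊗[K] (R ⊗[K] C) →ₗ[K] C :=
  (TensorProduct.lid K C).toLinearMap ∘ₗ
    TensorProduct.map ξ ((TensorProduct.lid K C).toLinearMap ∘ₗ η'.rTensor C)

theorem coef2_tmul (ξ η' : R →ₗ[K] K) (r r' : R) (c : C) :
    coef2 ξ η' (r ⊗ₜ[K] (r' ⊗ₜ[K] c)) = ξ r • η' r' • c := by
  simp [coef2]
  exact smul_comm _ _ _

theorem coef2_mul (ξ η' : R →ₗ[K] K) (x y : R ⊗[K] C) :
    coef2 ξ η' (Algebra.TensorProduct.map (AlgHom.id K R)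
      (Algebra.TensorProduct.includeRight : C →ₐ[K] R ⊗[K] C) x * ((1 : R) ⊗ₜ[K] y)) = coefL x ξ * coefL y η' := by
  induction x with
  | zero => simp [coefL]
  | add a b ha hb =>
    have e : coefL (a + b) ξ = coefL a ξ + coefL b ξ := by simp [coefL]
    rw [map_add, add_mul, map_add, ha, hb, e, add_mul]
  | tmul r c =>
    induction y with
    | zero => simp [coefL]
    | add a b ha hb =>
      have e : coefL (a + b) η' = coefL a η' + coefL b η' := by simp [coefL]
      rw [TensorProduct.tmul_add, mul_add, map_add, ha, hb, e, mul_add]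
    | tmul r' c' =>
      rw [Algebra.TensorProduct.map_tmul, Algebra.TensorProduct.includeRight_apply, AlgHom.id_apply,
        Algebra.TensorProduct.tmul_mul_tmul, Algebra.TensorProduct.tmul_mul_tmul, _root_.mul_one, _root_.one_mul,
        coef2_tmul, coefL_tmul, coefL_tmul]
      simp [mul_comm, smul_mul_smul_comm, smul_smul]

/-- Evaluation of a double tensor along two functionals. -/
def evalPair (ξ η' : R →ₗ[K] K) : R ⊗[K] R →ₗ[K] K :=
  (TensorProduct.lid K K).toLinearMap ∘ₗ TensorProduct.map ξ η'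

theorem coef2_assoc (ξ η' : R →ₗ[K] K) (z : R ⊗[K] R) (c : C) :
    coef2 ξ η' (Algebra.TensorProduct.assoc K K K R R C (z ⊗ₜ[K] c)) = evalPair ξ η' z • c := by
  induction z with
  | zero => simp [evalPair]
  | add a b ha hb => simp [TensorProduct.add_tmul, ha, hb, add_smul]
  | tmul r r' => simp [coef2_tmul, evalPair, smul_smul]

end Coef

variable (G : Over (Spec (CommRingCat.of K))) [GrpObj G] [IsAffine G.left]

/-- The comultiplication of functions. -/
def comulG : Gam G →ₐ[K] Gam G ⊗[K] Gam G :=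
  (AlgEquiv.ofBijective (gamProd G G) (bijective_gamProd G G)).symm.toAlgHom.comp (gamMap μ[G])

theorem gamProd_comulG (r : Gam G) : gamProd G G (comulG G r) = gamMap μ[G] r :=
  (AlgEquiv.ofBijective (gamProd G G) (bijective_gamProd G G)).apply_symm_apply _

theorem bijective_algebraMap_unit :
    Function.Bijective (algebraMap K (Gam (𝟙_ (Over (Spec (CommRingCat.of K)))))) := by
  have h2 : (𝟙_ (Over (Spec (CommRingCat.of K)))).hom.appTop = 𝟙 _ := Scheme.Hom.id_appTop
  show Function.Bijective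
    ((Scheme.ΓSpecIso (CommRingCat.of K)).inv ≫ (𝟙_ (Over (Spec (CommRingCat.of K)))).hom.appTop).hom
  rw [h2, Category.comp_id]
  exact ConcreteCategory.bijective_of_isIso (Scheme.ΓSpecIso (CommRingCat.of K)).inv

/-- The counit of functions. -/
def counitG : Gam G →ₗ[K] K :=
  ((AlgEquiv.ofBijective (Algebra.ofId K _) (bijective_algebraMap_unit (K := K))).symm.toAlgHom.comp
    (gamMap η[G])).toLinearMap

theorem algebraMap_counitG (U : Over (Spec (CommRingCat.of K))) (r : Gam G) :
    algebraMap K (Gam U) (counitG G r) = gamMap (1 : U ⟶ G) r := by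
  rw [Hom.one_def, gamMap_comp, ← (gamMap (toUnit U)).commutes (counitG G r)]
  exact congrArg _ ((AlgEquiv.ofBijective (Algebra.ofId K _) (bijective_algebraMap_unit (K := K))).apply_symm_apply _)

variable {G} {T : Over (Spec (CommRingCat.of K))} [IsAffine T.left]

/-- The convolution of functionals. -/
def starG (ξ η' : Gam G →ₗ[K] K) : Gam G →ₗ[K] K := evalPair ξ η' ∘ₗ (comulG G).toLinearMap

/-- The coefficients of a function on the product. -/
def coefG (x : Gam (G ⊗ T)) : (Gam G →ₗ[K] K) →ₗ[K] Gam T :=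
  coefL ((AlgEquiv.ofBijective (gamProd G T) (bijective_gamProd G T)).symm x)

theorem eq_sum_coefG [Module.Finite K (Gam G)] (x : Gam (G ⊗ T)) :
    x = ∑ b, gamProd G T (Module.finBasis K (Gam G) b ⊗ₜ coefG x ((Module.finBasis K (Gam G)).coord b)) := by
  rw [← map_sum]
  conv_lhs => rw [← (AlgEquiv.ofBijective (gamProd G T) (bijective_gamProd G T)).apply_symm_apply x]
  exact congrArg (gamProd G T) (eq_sum_coefL _)

/-- Multiplicative functions have multiplicative coefficients. -/
theorem coefG_mul {x : Gam (G ⊗ T)}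
    (hx : gamMap (lift (fst G (G ⊗ T) * (snd G (G ⊗ T) ≫ fst G T)) (snd G (G ⊗ T) ≫ snd G T)) x =
      gamMap (lift (fst G (G ⊗ T)) (snd G (G ⊗ T) ≫ snd G T)) x * gamMap (snd G (G ⊗ T)) x)
    (ξ η' : Gam G →ₗ[K] K) : coefG x ξ * coefG x η' = coefG x (starG ξ η') := by
  let eT := AlgEquiv.ofBijective (gamProd G T) (bijective_gamProd G T)
  obtain ⟨x', rfl⟩ : ∃ x', gamProd G T x' = x := ⟨eT.symm x, eT.apply_symm_apply x⟩
  have hc : coefG (gamProd G T x') = coefL x' := congrArg coefL (eT.symm_apply_apply x')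
  rw [hc]
  let E : Gam G ⊗[K] (Gam G ⊗[K] Gam T) →ₐ[K] Gam (G ⊗ (G ⊗ T)) :=
    (gamProd G (G ⊗ T)).comp (Algebra.TensorProduct.map (AlgHom.id K (Gam G)) (gamProd G T))
  have hE : Function.Injective E :=
    (bijective_gamProd G (G ⊗ T)).1.comp
      (Algebra.TensorProduct.congr (AlgEquiv.refl (R := K) (A₁ := Gam G)) eT).bijective.1
  let F : Gam G ⊗[K] Gam T →ₐ[K] Gam G ⊗[K] (Gam G ⊗[K] Gam T) :=
    (Algebra.TensorProduct.assoc K K K (Gam G) (Gam G) (Gam T)).toAlgHom.comp
      (Algebra.TensorProduct.map (comulG G) (AlgHom.id K (Gam T)))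
  have hE3 : ∀ (r r' : Gam G) (c : Gam T), E (r ⊗ₜ (r' ⊗ₜ c)) = gamMap (fst G (G ⊗ T)) r *
      (gamMap (snd G (G ⊗ T) ≫ fst G T) r' * gamMap (snd G (G ⊗ T) ≫ snd G T) c) := fun r r' c => by
    show gamProd G (G ⊗ T) (Algebra.TensorProduct.map (AlgHom.id K (Gam G)) (gamProd G T) (r ⊗ₜ (r' ⊗ₜ c))) = _
    rw [Algebra.TensorProduct.map_tmul, gamProd_tmul, gamProd_tmul, map_mul, AlgHom.id_apply, gamMap_comp,
      gamMap_comp]
  have hEF : ∀ y, E (F y) =
      gamMap (lift (fst G (G ⊗ T) * (snd G (G ⊗ T) ≫ fst G T)) (snd G (G ⊗ T) ≫ snd G T)) (gamProd G T y) := fun y => by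
    induction y with
    | zero => simp
    | add a b ha hb => simp [ha, hb]
    | tmul r c =>
      rw [gamMap_lift, Hom.mul_def, gamMap_comp _ μ[G], ← gamProd_comulG]
      show E (Algebra.TensorProduct.assoc K K K (Gam G) (Gam G) (Gam T) (comulG G r ⊗ₜ c)) = _
      induction comulG G r with
      | zero => simp
      | add a b ha hb => rw [TensorProduct.add_tmul, map_add, map_add, ha, hb, map_add, map_add, add_mul]
      | tmul s s' =>
        rw [Algebra.TensorProduct.assoc_tmul, hE3, gamMap_lift, _root_.mul_assoc]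
  have hE1 : ∀ y, E (Algebra.TensorProduct.map (AlgHom.id K (Gam G))
      (Algebra.TensorProduct.includeRight : Gam T →ₐ[K] Gam G ⊗[K] Gam T) y) =
        gamMap (lift (fst G (G ⊗ T)) (snd G (G ⊗ T) ≫ snd G T)) (gamProd G T y) := fun y => by
    induction y with
    | zero => simp
    | add a b ha hb => simp [ha, hb]
    | tmul r c =>
      rw [gamMap_lift, Algebra.TensorProduct.map_tmul, Algebra.TensorProduct.includeRight_apply, AlgHom.id_apply, hE3,
        map_one, _root_.one_mul]
  have hE2 : ∀ y, E ((1 : Gam G) ⊗ₜ y) = gamMap (snd G (G ⊗ T)) (gamProd G T y) := fun y => by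
    show gamProd G (G ⊗ T) (Algebra.TensorProduct.map (AlgHom.id K (Gam G)) (gamProd G T) ((1 : Gam G) ⊗ₜ y)) = _
    rw [Algebra.TensorProduct.map_tmul, gamProd_tmul, map_one, map_one, _root_.one_mul]
  have hmult : F x' = Algebra.TensorProduct.map (AlgHom.id K (Gam G))
      (Algebra.TensorProduct.includeRight : Gam T →ₐ[K] Gam G ⊗[K] Gam T) x' * ((1 : Gam G) ⊗ₜ x') := hE (by
    rw [map_mul, hEF, hE1, hE2]
    exact hx)
  have h := congrArg (coef2 ξ η') hmult
  rw [coef2_mul] at h
  rw [← h]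
  show coef2 ξ η' (F x') = coefL x' (starG ξ η')
  clear h hmult hc hx
  induction x' with
  | zero => simp [coefL]
  | add a b ha hb => simp [coefL] at ha hb ⊢; rw [ha, hb]
  | tmul r c =>
    rw [coefL_tmul]
    exact coef2_assoc ξ η' (comulG G r) c

/-- A function equal to one at the origin has unital coefficients. -/
theorem coefG_counit {x : Gam (G ⊗ T)} (hx : gamMap (lift (1 : T ⟶ G) (𝟙 T)) x = 1) : coefG x (counitG G) = 1 := by
  let eT := AlgEquiv.ofBijective (gamProd G T) (bijective_gamProd G T)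
  obtain ⟨x', rfl⟩ : ∃ x', gamProd G T x' = x := ⟨eT.symm x, eT.apply_symm_apply x⟩
  rw [show coefG (gamProd G T x') = coefL x' from congrArg coefL (eT.symm_apply_apply x'), ← hx]
  clear hx
  induction x' with
  | zero => simp [coefL]
  | add a b ha hb => simp [coefL, map_add] at ha hb ⊢; rw [ha, hb]
  | tmul r c => rw [gamMap_lift, gamMap_id, coefL_tmul, Algebra.smul_def, algebraMap_counitG]

/-- Points agreeing on the coefficients agree on the function. -/
theorem gamMap_whisker_congr [Module.Finite K (Gam G)] {U : Over (Spec (CommRingCat.of K))} (u u' : U ⟶ T)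
    (x : Gam (G ⊗ T)) (h : ∀ ξ, gamMap u (coefG x ξ) = gamMap u' (coefG x ξ)) :
    gamMap (G ◁ u) x = gamMap (G ◁ u') x := by
  rw [eq_sum_coefG x, map_sum, map_sum]
  refine Finset.sum_congr rfl fun b _ => ?_
  rw [gamProd_tmul, map_mul, map_mul, ← gamMap_comp, ← gamMap_comp, ← gamMap_comp, ← gamMap_comp,
    whiskerLeft_fst, whiskerLeft_fst, whiskerLeft_snd, whiskerLeft_snd, gamMap_comp _ u, gamMap_comp _ u', h]

/-- Coefficients separating points are all functions. -/
theorem surjective_coefG [Module.Finite K (Gam T)] {x : Gam (G ⊗ T)}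
    (hmul : ∀ ξ η', coefG x ξ * coefG x η' = coefG x (starG ξ η')) (h1 : coefG x (counitG G) = 1)
    (hext : ∀ {S : Type u} [CommRing S] [Algebra K S] (f f' : Gam T →ₐ[K] S),
      (∀ ξ, f (coefG x ξ) = f' (coefG x ξ)) → f = f') : Function.Surjective (coefG x) := by
  let ψ := coefG x
  let C₀ : Subalgebra K (Gam T) :=
    { carrier := Set.range ψ
      mul_mem' := by rintro _ _ ⟨a, rfl⟩ ⟨b, rfl⟩; exact ⟨_, (hmul a b).symm⟩
      one_mem' := ⟨counitG G, h1⟩
      add_mem' := by rintro _ _ ⟨a, rfl⟩ ⟨b, rfl⟩; exact ⟨a + b, map_add ψ a b⟩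
      zero_mem' := ⟨0, map_zero ψ⟩
      algebraMap_mem' := fun c => ⟨c • counitG G, by rw [map_smul, h1, Algebra.smul_def, _root_.mul_one]⟩ }
  haveI : Module.Finite C₀ (Gam T) := Module.Finite.of_restrictScalars_finite K C₀ (Gam T)
  have hsur := (Algebra.isEpi_iff_surjective_algebraMap_of_finite (R := C₀) (A := Gam T)).1
    ((Algebra.isEpi_iff_forall_one_tmul_eq C₀ (Gam T)).2 fun c => by
      have := hext (Algebra.TensorProduct.includeRight.restrictScalars K : Gam T →ₐ[K] Gam T ⊗[C₀] Gam T)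
        (Algebra.TensorProduct.includeLeft : Gam T →ₐ[K] Gam T ⊗[C₀] Gam T) fun ξ => by
          show (1 : Gam T) ⊗ₜ[C₀] (algebraMap C₀ (Gam T) ⟨_, ξ, rfl⟩) =
            (algebraMap C₀ (Gam T) ⟨_, ξ, rfl⟩) ⊗ₜ[C₀] (1 : Gam T)
          rw [Algebra.algebraMap_eq_smul_one, TensorProduct.tmul_smul, TensorProduct.smul_tmul']
      exact AlgHom.congr_fun this c)
  intro c
  obtain ⟨b, rfl⟩ := hsur c
  exact b.2

/-- Every character of the finite group is reached by a point when the coefficients are all functions. -/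
theorem exists_point_of_coefG [Module.Finite K (Gam G)] [Module.Finite K (Gam T)] {x : Gam (G ⊗ T)}
    (hmul : ∀ ξ η', coefG x ξ * coefG x η' = coefG x (starG ξ η')) (h1 : coefG x (counitG G) = 1)
    (hbij : Function.Bijective (coefG x))
    (y : Gam G) (hy : comulG G y = y ⊗ₜ y) (hy1 : counitG G y = 1) :
    ∃ u : spO K K ⟶ T, gamMap (G ◁ u) x = gamMap (fst G (spO K K)) y := by
  let ψe := LinearEquiv.ofBijective (coefG x) hbij
  let Ev : (Gam G →ₗ[K] K) →ₗ[K] K :=
    { toFun := fun ξ => ξ y, map_add' := fun a b => rfl, map_smul' := fun a b => rfl }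
  let χ : Gam T →ₐ[K] K := AlgHom.ofLinearMap (Ev ∘ₗ ψe.symm.toLinearMap) (by
      show (ψe.symm 1) y = 1
      rw [show ψe.symm 1 = counitG G from ψe.symm_apply_eq.2 h1.symm, hy1]) fun c c' => by
    obtain ⟨a, rfl⟩ := ψe.surjective c
    obtain ⟨b, rfl⟩ := ψe.surjective c'
    show (ψe.symm (ψe a * ψe b)) y = (ψe.symm (ψe a)) y * (ψe.symm (ψe b)) y
    rw [show ψe a * ψe b = ψe (starG a b) from hmul a b, ψe.symm_apply_apply, ψe.symm_apply_apply,
      ψe.symm_apply_apply]
    show evalPair a b (comulG G y) = a y * b y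
    rw [hy]
    simp [evalPair]
  refine ⟨spMap χ ≫ (gamIso T).hom, ?_⟩
  rw [eq_sum_coefG x, map_sum]
  have hb : ∀ b, gamMap (G ◁ (spMap χ ≫ (gamIso T).hom))
      (gamProd G T (Module.finBasis K (Gam G) b ⊗ₜ coefG x ((Module.finBasis K (Gam G)).coord b))) =
        gamMap (fst G (spO K K)) ((Module.finBasis K (Gam G)).coord b y • Module.finBasis K (Gam G) b) := fun b => by
    rw [gamProd_tmul, map_mul, ← gamMap_comp, ← gamMap_comp, whiskerLeft_fst, whiskerLeft_snd,
      gamMap_comp _ (spMap χ ≫ (gamIso T).hom), gamMap_spMap, map_smul, Algebra.smul_def, _root_.mul_comm]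
    congr 1
    have hχ : χ (coefG x ((Module.finBasis K (Gam G)).coord b)) = (Module.finBasis K (Gam G)).coord b y := by
      show (ψe.symm (ψe ((Module.finBasis K (Gam G)).coord b))) y = _
      rw [ψe.symm_apply_apply]
    rw [hχ, ← (gamMap (snd G (spO K K))).commutes]
    congr 1
    show _ = ((Scheme.ΓSpecIso (CommRingCat.of K)).inv ≫ (spO K K).hom.appTop) _
    rw [show (spO K K).hom.appTop = 𝟙 _ by
      show (Spec.map (CommRingCat.ofHom (algebraMap K K))).appTop = 𝟙 _
      rw [show Spec.map (CommRingCat.ofHom (algebraMap K K)) = 𝟙 _ by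
        rw [Algebra.algebraMap_self, CommRingCat.ofHom_id, Spec.map_id], Scheme.Hom.id_appTop], Category.comp_id]
    rfl
  rw [Finset.sum_congr rfl fun b _ => hb b, ← map_sum,
    show ∑ b, (Module.finBasis K (Gam G)).coord b y • Module.finBasis K (Gam G) b = y from
      (Module.finBasis K (Gam G)).sum_repr y]

end Groth.Agent.PicAVLib
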