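import Groth.Agent.PicAVLib.Char
import Groth.Agent.PicAVLib.GrpLike
import Groth.Agent.PicAVLib.Dual
import Groth.Agent.AVLib.Deg.AV

/-!
# Every class killed by multiplication lies on the dual
-/

set_option autoImplicit false
set_option backward.isDefEq.respectTransparency false
set_option linter.style.haveILetI false
set_option synthInstance.maxHeartbeats 400000
set_option maxHeartbeats 1000000

universe u

open CategoryTheory CategoryTheory.Limits MonoidalCategory CartesianMonoidalCategory MonObj AlgebraicGeometry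
open Groth.Agent.PicLib
open scoped TensorProduct

noncomputable section

namespace Groth.Agent.PicAVLib

open GrpSchLib (spO spMap idComp)

variable {K : Type u} [Field K]

local notation "SK" => Spec (CommRingCat.of K)

variable [IsAlgClosed K] {A : Over (Spec (CommRingCat.of K))} [GrpObj A] [IsProper A.hom]
  [GeometricallyIntegral A.hom]

theorem finrank_kernel {g : ℕ} (hg : topologicalKrullDim A.left = g) (n : ℕ) (hn : 1 ≤ n) :
    IsFinite (pullback (𝟙 A ^ n) η[A]).hom ∧ Module.Finite K (Gam (pullback (𝟙 A ^ n) η[A])) ∧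
      Module.finrank K (Gam (pullback (𝟙 A ^ n) η[A])) = n ^ (2 * g) := by
  obtain ⟨hfin, hflat, hrk⟩ := AVLib.npow_spec hg n hn
  haveI := hfin
  haveI := hflat
  haveI : IsLocallyNoetherian A.left := LocallyOfFiniteType.isLocallyNoetherian A.hom
  haveI : LocallyOfFinitePresentation (𝟙 A ^ n).left := inferInstance
  have hsq := GrpQuotLib.isPullback_left (IsPullback.of_hasPullback (𝟙 A ^ n) η[A])
  have e : (pullback (𝟙 A ^ n) η[A]).hom = hsq.isoPullback.hom ≫ pullback.snd (𝟙 A ^ n).left η[A].left := by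
    rw [hsq.isoPullback_hom_snd, ← Over.w (pullback.snd (𝟙 A ^ n) η[A])]
    exact Category.comp_id _
  haveI hf : IsFinite (pullback (𝟙 A ^ n) η[A]).hom := by rw [e]; infer_instance
  exact ⟨hf, finrank_gam _ fun x => by
    rw [e, Scheme.Hom.finrank_comp_left_of_isIso, Scheme.Hom.finrank_pullback_snd, hrk]⟩

/-- Morphisms to a separated scheme agreeing on rational points agree. -/
theorem hom_ext_pnts {X Y : Over SK} [LocallyOfFiniteType X.hom] [IsReduced X.left] [IsSeparated Y.hom]
    [LocallyOfFiniteType Y.hom] {f f' : X ⟶ Y} (h : ∀ x : 𝟙_ (Over SK) ⟶ X, x ≫ f = x ≫ f') : f = f' := by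
  ext1
  haveI : LocallyOfFiniteType (f.left ≫ Y.hom) := by rw [Over.w f]; infer_instance
  refine ext_of_apply_eq Y.hom Set.univ isClosed_univ.isLocallyClosed dense_univ (fun z _ hz => ?_)
    ((Over.w f).trans (Over.w f').symm)
  obtain ⟨x, hx⟩ := AVLib.exists_ratPt hz
  rw [← hx]
  exact (comp_pnt x f).symm.trans ((congrArg pnt (h x)).trans (comp_pnt x f'))

/-- A multiplicative function over a point is grouplike. -/
theorem exists_grpLike {G : Over (Spec (CommRingCat.of K))} [GrpObj G] [IsAffine G.left] (xd : Gam (G ⊗ spO K K))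
    (hm : gamMap (lift (fst G (G ⊗ spO K K) * (snd G (G ⊗ spO K K) ≫ fst G (spO K K)))
        (snd G (G ⊗ spO K K) ≫ snd G (spO K K))) xd =
      gamMap (lift (fst G (G ⊗ spO K K)) (snd G (G ⊗ spO K K) ≫ snd G (spO K K))) xd *
        gamMap (snd G (G ⊗ spO K K)) xd)
    (h1 : gamMap (lift (1 : spO K K ⟶ G) (𝟙 (spO K K))) xd = 1) :
    ∃ y : Gam G, comulG G y = y ⊗ₜ y ∧ counitG G y = 1 ∧ gamMap (fst G (spO K K)) y = xd := by
  let c : G ⟶ spO K K := toUnit G ≫ AVLib.unitIso.hom
  obtain ⟨y, hydef⟩ : ∃ y : Gam G, y = gamMap (lift (𝟙 G) c) xd := ⟨_, rfl⟩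
  have huniq : ∀ {V : Over SK} (a b : V ⟶ spO K K), a = b := fun {V} a b => by
    rw [← cancel_mono AVLib.unitIso.inv]
    exact toUnit_unique _ _
  have hyd : gamMap (fst G (spO K K)) y = xd := by
    rw [hydef, ← gamMap_comp, show fst G (spO K K) ≫ lift (𝟙 G) c = 𝟙 (G ⊗ spO K K) from
      CartesianMonoidalCategory.hom_ext _ _ (by rw [Category.assoc, lift_fst, Category.comp_id, Category.id_comp])
        (huniq _ _), gamMap_id]
  refine ⟨y, ?_, ?_, hyd⟩
  · refine (bijective_gamProd G G).1 ?_
    rw [gamProd_comulG, gamProd_tmul]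
    let m : G ⊗ G ⟶ G ⊗ (G ⊗ spO K K) := lift (fst G G) (lift (snd G G) (toUnit _ ≫ AVLib.unitIso.hom))
    have h := congrArg (gamMap m) hm
    rw [map_mul, ← gamMap_comp, ← gamMap_comp, ← gamMap_comp, ← hyd, ← gamMap_comp, ← gamMap_comp, ← gamMap_comp] at h
    simp only [m, Category.assoc, lift_fst, lift_snd_assoc, lift_snd, MonObj.comp_mul] at h
    rw [show μ[G] = fst G G * snd G G by rw [Hom.mul_def, lift_fst_snd, Category.id_comp]]
    exact h
  · haveI : Nontrivial (Gam (spO K K)) := (Scheme.ΓSpecIso (CommRingCat.of K)).commRingCatIsoToRingEquiv.nontrivial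
    refine (algebraMap K (Gam (spO K K))).injective ?_
    rw [map_one, algebraMap_counitG, ← h1, ← hyd, ← gamMap_comp, lift_fst]

variable {P N : Over (Spec (CommRingCat.of K))} [GrpObj P] [IsSeparated P.hom] [LocallyOfFiniteType P.hom]
  [GrpObj N] [IsProper N.hom] [GeometricallyIntegral N.hom] (i : N ⟶ P) [IsMonHom i] [IsClosedImmersion i.left]

/-- Every class killed by inverse image along multiplication by `n` is on the identity component. -/
theorem PicRep.exists_of_pull_npow (D : PicRep A P) (hr : Set.range i.left = idComp P) {g : ℕ}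
    (hA : topologicalKrullDim A.left = g) (hN : topologicalKrullDim N.left = g) (n : ℕ) (hn : 1 ≤ n)
    (d : Pic A.left) (hd : pull (𝟙 A ^ n).left d = 1) :
    ∃ x : 𝟙_ (Over (Spec (CommRingCat.of K))) ⟶ N, D.cl (x ≫ i) = d := by
  classical
  haveI := AVLib.isCommMonObj (A := A)
  haveI := AVLib.isCommMonObj (A := N)
  haveI : Subsingleton ↥SK := inferInstanceAs (Subsingleton (PrimeSpectrum K))
  haveI : IsIntegral N.left := GeometricallyIntegral.isIntegral_of_subsingleton N.hom
  haveI : IsMonHom (𝟙 A ^ n) := GrpSchLib.isMonHom_pow (𝟙 A) n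
  haveI : IsMonHom (𝟙 N ^ n) := GrpSchLib.isMonHom_pow (𝟙 N) n
  obtain ⟨hfinG, hRfin, hRrk⟩ := finrank_kernel hA n hn
  obtain ⟨hfinT, hCfin, hCrk⟩ := finrank_kernel hN n hn
  haveI := hRfin; haveI := hCfin
  let q : A ⟶ A := 𝟙 A ^ n
  obtain ⟨hgG, hκh⟩ := GrpQuotLib.exists_grpObj_kernel q
  letI := hgG
  haveI := hκh
  let G := pullback q η[A]
  let κ : G ⟶ A := pullback.fst q η[A]
  have hker : AlgGrp.IsKernel κ q := by
    show IsPullback κ (toUnit G) q η[A]
    rw [toUnit_unique (toUnit G) (pullback.snd q η[A])]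
    exact IsPullback.of_hasPullback q η[A]
  have hκ : κ ≫ q = 1 := by rw [hker.w, Hom.one_def]
  haveI : IsFinite G.hom := hfinG
  haveI : IsAffine G.left := isAffine_of_isAffineHom G.hom
  haveI : Surjective q.left := AVLib.surjective_npow (A := A) n hn
  haveI : IsFinite q.left := (AVLib.npow_spec hA n hn).1
  haveI : Flat q.left := (AVLib.npow_spec hA n hn).2.1
  let T := pullback (𝟙 N ^ n) η[N]
  let j : T ⟶ N := pullback.fst (𝟙 N ^ n) η[N]
  haveI : IsFinite T.hom := hfinT
  haveI : IsAffine T.left := isAffine_of_isAffineHom T.hom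
  haveI : IsClosedImmersion η[N].left := GrpSchLib.isClosedImmersion_unit
  haveI : IsClosedImmersion j.left := MorphismProperty.of_isPullback
    (GrpQuotLib.isPullback_left (IsPullback.of_hasPullback (𝟙 N ^ n) η[N])).flip ‹IsClosedImmersion η[N].left›
  haveI : Mono j := (Over.forget _).mono_of_mono_map (show Mono j.left by infer_instance)
  haveI : Mono i := (Over.forget _).mono_of_mono_map (show Mono i.left by infer_instance)
  -- the class on `A ⊗ T` dies along `[n]`
  obtain ⟨Φ, hΦ⟩ := D.surj N (pull (q ▷ N).left (pull (A ◁ i).left D.uni)) (by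
    rw [← pull_comp, ← Over.comp_left, show rigPt A N ≫ q ▷ N = rigPt A N from
      CartesianMonoidalCategory.hom_ext _ _
        (by rw [rigPt, Category.assoc, whiskerRight_fst, lift_fst_assoc, lift_fst, Category.assoc, IsMonHom.one_hom])
        (by rw [rigPt, Category.assoc, whiskerRight_snd])]
    exact pull_whisker_mem A i D.rig)
  have hΦi : Φ = (𝟙 N ^ n) ≫ i := by
    refine hom_ext_pnts fun x => D.cl_injective ?_
    rw [D.cl_comp, hΦ, ← pull_comp, ← Over.comp_left,
      show lift (𝟙 A) (toUnit A ≫ x) ≫ q ▷ N = q ≫ lift (𝟙 A) (toUnit A ≫ x) from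
        CartesianMonoidalCategory.hom_ext _ _ (by simp) (by simp [← Category.assoc, toUnit_unique (q ≫ toUnit A) (toUnit A)]),
      Over.comp_left, pull_comp, ← D.cl_comp, pull_npow_of_invariant (D.invariant i hr x), ← Category.assoc,
      MonObj.comp_pow, Category.comp_id, MonObj.pow_comp, map_pow]
  let e : Pic (A ⊗ T).left := pull (A ◁ (j ≫ i)).left D.uni
  have he : pull (q ▷ T).left e = 1 := by
    show pull (q ▷ T).left (pull (A ◁ (j ≫ i)).left D.uni) = 1
    rw [← pull_comp, ← Over.comp_left, MonoidalCategory.whiskerLeft_comp, ← whisker_exchange_assoc, Over.comp_left,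
      Over.comp_left, pull_comp, pull_comp, ← hΦ, ← pull_comp, ← Over.comp_left, ← MonoidalCategory.whiskerLeft_comp,
      hΦi, ← Category.assoc, pullback.condition, Category.assoc, IsMonHom.one_hom,
      show pullback.snd (𝟙 N ^ n) η[N] ≫ η[P] = (1 : T ⟶ P) by
        rw [Hom.one_def, toUnit_unique (toUnit T) (pullback.snd (𝟙 N ^ n) η[N])]]
    exact map_one (D.clsOf A T)
  obtain ⟨x, hx⟩ := exists_isCharOf q κ hker T hκ e he
  -- coefficients
  have hmul : ∀ ξ η', coefG x ξ * coefG x η' = coefG x (starG ξ η') := coefG_mul (hx.mult q κ)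
  have h1 : coefG x (counitG G) = 1 := coefG_counit (hx.at_one q κ)
  have hsurj : Function.Surjective (coefG x) := surjective_coefG hmul h1 fun {S} _ _ f f' hff => by
    let u : spO K S ⟶ T := spMap f ≫ (gamIso T).hom
    let u' : spO K S ⟶ T := spMap f' ≫ (gamIso T).hom
    have hxu : gamMap (G ◁ u) x = gamMap (G ◁ u') x := gamMap_whisker_congr u u' x fun ξ => by
      rw [gamMap_spMap, gamMap_spMap, hff]
    have hp := hx.pull_eq q κ hker hx u u' hxu
    rw [← pull_comp, ← pull_comp, ← Over.comp_left, ← Over.comp_left, ← MonoidalCategory.whiskerLeft_comp,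
      ← MonoidalCategory.whiskerLeft_comp] at hp
    have := D.inj _ _ hp
    rw [← Category.assoc, ← Category.assoc, cancel_mono, cancel_mono] at this
    exact GrpSchLib.spMap_injective ((cancel_mono (gamIso T).hom).1 this)
  have hinj : Function.Injective (coefG x) := by
    refine (LinearMap.injective_iff_surjective_of_finrank_eq_finrank ?_).2 hsurj
    show Module.finrank K (Module.Dual K (Gam G)) = Module.finrank K (Gam T)
    rw [Subspace.dual_finrank_eq, hRrk, hCrk]
  -- the character of `d`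
  let O : Over SK := spO K K
  haveI : IsAffine O.left := inferInstanceAs (IsAffine (Spec _))
  obtain ⟨xd, hxd⟩ := exists_isCharOf q κ hker O hκ (pull (fst A O).left d) (by
    rw [← pull_comp, ← Over.comp_left, whiskerRight_fst, Over.comp_left, pull_comp, hd, map_one])
  obtain ⟨y, hy, hy1, hyd⟩ := exists_grpLike xd (hxd.mult q κ) (hxd.at_one q κ)
  obtain ⟨u, hu⟩ := exists_point_of_coefG hmul h1 ⟨hinj, hsurj⟩ y hy hy1
  have hp := hx.pull_eq q κ hker hxd u (𝟙 O) (by
    show gamMap (G ◁ u) x = gamMap (G ◁ 𝟙 O) xd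
    rw [hu, MonoidalCategory.whiskerLeft_id, gamMap_id, hyd])
  rw [MonoidalCategory.whiskerLeft_id, Over.id_left, pull_id, ← pull_comp, ← Over.comp_left,
    ← MonoidalCategory.whiskerLeft_comp] at hp
  refine ⟨AVLib.unitIso.hom ≫ u ≫ j, ?_⟩
  rw [Category.assoc, Category.assoc, D.cl_comp, hp, ← pull_comp, ← Over.comp_left, lift_fst, Over.id_left, pull_id]

end Groth.Agent.PicAVLib
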