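import Groth.Agent.PicAVLib.Induct
import Groth.Agent.PicAVLib.Kernel2

/-!
# Translation invariant classes lie on the dual
-/

set_option autoImplicit false
set_option backward.isDefEq.respectTransparency false
set_option linter.style.haveILetI false
set_option synthInstance.maxHeartbeats 400000
set_option maxHeartbeats 1000000

universe u

open CategoryTheory CategoryTheory.Limits MonoidalCategory CartesianMonoidalCategory MonObj AlgebraicGeometry
open Groth.Agent.PicLib
open Groth.Agent.AVLib (trR)
open Groth.Agent.PoincareLib (phi phi_apply)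

noncomputable section

namespace Groth.Agent.PicAVLib

variable {K : Type u} [Field K] [IsAlgClosed K] {A : Over (Spec (CommRingCat.of K))} [GrpObj A] [IsProper A.hom]
  [GeometricallyIntegral A.hom]

/-- A translation invariant class is algebraically equivalent to zero. -/
theorem isAlgZ_of_invariant {c : Pic A.left}
    (hc : ∀ a : 𝟙_ (Over (Spec (CommRingCat.of K))) ⟶ A, pull (trR a).left c = c) : IsAlgZ c := by
  obtain ⟨P, N, iP, iN, i, ⟨D⟩⟩ := exists_dual A
  haveI := D.hom; haveI := D.closed; haveI := D.sep; haveI := D.lft; haveI := D.proper; haveI := D.gi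
  haveI := AVLib.isCommMonObj (A := A)
  haveI := AVLib.isCommMonObj (A := N)
  obtain ⟨d, hd, h⟩ := exists_exp A
  obtain ⟨x, hx⟩ := (D.isAlgZ_iff _).1 (h c hc)
  obtain ⟨x', rfl⟩ := AVLib.exists_npow_eq (A := N) d hd x
  have hc' : pull (𝟙 A ^ d).left (c / D.rep.cl (x' ≫ i)) = 1 := by
    rw [map_div, pull_npow_of_invariant hc, pull_npow_of_invariant (D.rep.invariant i D.range x'), ← map_pow,
      ← MonObj.pow_comp, hx, div_self']
  obtain ⟨g, hg⟩ := AVLib.exists_dim (A := A)
  obtain ⟨L, hL, -⟩ := AVLib.exists_symmetric_ample (A := A)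
  obtain ⟨φ, hφ, hf, hsj, -⟩ := D.rep.exists_isogeny i D.range (cls hL.1) (AVLib.finite_stab hL)
  have hN : topologicalKrullDim N.left = g := (AVLib.dim_eq_of_isFinite_surjective φ).symm.trans hg
  have h1 := PicRep.exists_of_pull_npow (A := A) (P := P) (N := N) i D.rep D.range hg hN d hd
  have h2 := h1 (c / D.rep.cl (x' ≫ i))
  obtain ⟨y, hy⟩ := h2 hc'
  exact (D.isAlgZ_iff c).2 ⟨y * x', by rw [MonObj.mul_comp, map_mul, hy, div_mul_cancel]⟩

/-- The homomorphism of a class with finite stabiliser reaches every translation invariant class. -/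
theorem exists_phi_eq_of_invariant (c₀ : Pic A.left)
    (hc₀ : {a : 𝟙_ (Over (Spec (CommRingCat.of K))) ⟶ A | pull (trR a).left c₀ = c₀}.Finite) {c : Pic A.left}
    (hc : ∀ a : 𝟙_ (Over (Spec (CommRingCat.of K))) ⟶ A, pull (trR a).left c = c) :
    ∃ a, phi c₀ a = c := by
  obtain ⟨M, hM, rfl, hMa⟩ := isAlgZ_of_invariant hc
  exact exists_phi_eq_of_algEquivZero c₀ hc₀ hM hMa

end Groth.Agent.PicAVLib
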