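import Groth.Agent.AVLib.DivLine

/-!
# The line bundle of an effective Cartier divisor with its local equations
-/

set_option autoImplicit false
set_option backward.isDefEq.respectTransparency false
set_option maxHeartbeats 1000000

universe u

open CategoryTheory AlgebraicGeometry TopologicalSpace Opposite
open Groth.Agent.ParaFLib Groth.Agent.AmpleLib Groth.Agent.AVLib

noncomputable section

namespace Groth.Agent.PicAVLib

variable {X : Scheme.{u}}

/-- The invertible module of an effective Cartier divisor, with the equations. -/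
theorem exists_line_gen [IsIntegral X] [X.IsSeparated] {D : X.IdealSheafData}
    (hD : BlowUp.IsEffCartierIdeal D) :
    ∃ (L : X.Modules) (σ : Coh.structureModule X ⟶ L), PicF.IsInvertible L ∧
      CohB1.genLocus L σ = D.support.compl ∧ ∀ x : X, ∃ (U : X.affineOpens) (f : Γ(X, U.1)) (t : Γ(L, U.1)),
        x ∈ U.1 ∧ Gen U.1 t ∧ f • t = resT (sec σ) U.1 ∧ D.ideal U = Ideal.span {f} := by
  choose U hxU f hf hfU using hD
  let W : X → X.Opens := fun x => (U x).1
  have hW : iSup W = ⊤ := eq_top_iff.2 fun x _ => Opens.mem_iSup.2 ⟨x, hxU x⟩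
  have haff : ∀ a b, IsAffineOpen (W a ⊓ W b) := fun a b => (U a).2.inf (U b).2
  let F : ∀ a b, Γ(X, W a ⊓ W b) := fun a b => X.presheaf.map (homOfLE inf_le_left).op (f a)
  let G : ∀ a b, Γ(X, W a ⊓ W b) := fun a b => X.presheaf.map (homOfLE inf_le_right).op (f b)
  have hspan : ∀ a b, Ideal.span {F a b} = Ideal.span {G a b} := by
    intro a b
    have h1 := D.map_ideal (U := ⟨_, haff a b⟩) (V := U a) (inf_le_left : W a ⊓ W b ≤ W a)
    have h2 := D.map_ideal (U := ⟨_, haff a b⟩) (V := U b) (inf_le_right : W a ⊓ W b ≤ W b)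
    rw [hfU, Ideal.map_span, Set.image_singleton] at h1 h2
    exact h1.trans h2.symm
  have key : ∀ a b, ∃ u : (Γ(X, W a ⊓ W b))ˣ, F a b * u = G a b := by
    intro a b
    rcases isDomain_or_subsingleton (W a ⊓ W b) with h | h
    · obtain ⟨u, hu⟩ := Ideal.span_singleton_eq_span_singleton.1 (hspan a b)
      exact ⟨u, hu⟩
    · exact ⟨1, Subsingleton.elim _ _⟩
  choose η hη using key
  have hne : ∀ a (V : X.Opens) (h : V ≤ W a), IsDomain Γ(X, V) → X.presheaf.map (homOfLE h).op (f a) ≠ 0 := by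
    intro a V h hV hz
    have hVne : (V : Set X).Nonempty := by
      by_contra hn
      have h0 : V = ⊥ := Opens.ext (by simpa using Set.not_nonempty_iff_eq_empty.1 hn)
      subst h0
      haveI : Subsingleton Γ(X, (⊥ : X.Opens)) := CommRingCat.subsingleton_of_isTerminal X.sheaf.isTerminalOfEmpty
      exact not_subsingleton Γ(X, (⊥ : X.Opens)) inferInstance
    haveI : Nonempty (W a) := ⟨⟨hVne.some, h hVne.some_mem⟩⟩
    haveI : Nonempty V := ⟨⟨hVne.some, hVne.some_mem⟩⟩
    refine nonZeroDivisors.ne_zero (hf a) (map_injective_of_isIntegral X (homOfLE h) ?_)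
    exact hz.trans (map_zero _).symm
  have hcoc : IsCocycle W η := by
    intro a b c
    rcases isDomain_or_subsingleton (W a ⊓ W b ⊓ W c) with h | h
    · apply mul_left_cancel₀ (hne a _ (inf_le_left.trans inf_le_left) h)
      have e1 := congrArg (X.presheaf.map (homOfLE (inf_le_inf_right (W c) inf_le_left :
        W a ⊓ W b ⊓ W c ≤ W a ⊓ W c)).op) (hη a c)
      have e2 := congrArg (X.presheaf.map (homOfLE (inf_le_left : W a ⊓ W b ⊓ W c ≤ W a ⊓ W b)).op) (hη a b)
      have e3 := congrArg (X.presheaf.map (homOfLE (inf_le_inf_right (W c) inf_le_right :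
        W a ⊓ W b ⊓ W c ≤ W b ⊓ W c)).op) (hη b c)
      simp only [map_mul, F, G, xres_res] at e1 e2 e3
      rw [e1, ← mul_assoc, e2, e3]
    · exact Subsingleton.elim _ _
  obtain ⟨L, s, hL, hs, hcomp⟩ := exists_invertible_of_cocycle W η hW hcoc
  let c : ∀ a, Γ(L, W a) := fun a => f a • s a
  have hc : ∀ a b, L.presheaf.map (homOfLE (inf_le_left : W a ⊓ W b ≤ W a)).op (c a) =
      L.presheaf.map (homOfLE (inf_le_right : W a ⊓ W b ≤ W b)).op (c b) := by
    intro a b
    show L.presheaf.map _ (f a • s a) = L.presheaf.map _ (f b • s b)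
    rw [L.map_smul, L.map_smul, hcomp a b, ← mul_smul]
    exact congrArg (· • _) (hη a b)
  obtain ⟨σ, hσ, -⟩ := TopCat.Sheaf.existsUnique_gluing' ⟨L.presheaf, L.isSheaf⟩ W ⊤
    (fun a => homOfLE le_top) hW.ge c hc
  refine ⟨L, DCohLib.secHom L σ, hL, ?_, fun x => ⟨U x, f x, s x, hxU x, hs x, by rw [sec_secHom]; exact (hσ x).symm, hfU x⟩⟩
  ext x
  have h1 := genLocus_inf_eq_basicOpen (DCohLib.secHom L σ) (hs x) (a := f x)
    (by rw [sec_secHom]; exact (hσ x).symm)
  have h2 := inter_compl_support (U x) (hfU x)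
  constructor
  · intro h
    exact (h2.ge (h1.le ⟨h, hxU x⟩)).1
  · intro h
    exact (h1.ge (h2.le ⟨h, hxU x⟩)).1

end Groth.Agent.PicAVLib
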