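import Groth.Agent.PicAVLib.RatioPull
import Groth.Agent.GrpQuotLib.KerGrp
import Groth.Agent.MonoFibre.KernelFibre
import Groth.Agent.RigidLib.Proper
import Groth.Agent.AVLib.Const
import Groth.Agent.SchDesc.QAffAlg

/-!
# The character of a class dying along an isogeny, with parameters
-/

set_option autoImplicit false
set_option backward.isDefEq.respectTransparency false
set_option linter.style.haveILetI false
set_option synthInstance.maxHeartbeats 400000
set_option maxHeartbeats 1000000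

universe u

open CategoryTheory CategoryTheory.Limits MonoidalCategory CartesianMonoidalCategory MonObj AlgebraicGeometry
open Groth.Agent.PicLib Groth.Agent.InvDescLib Groth.Agent.ParaFLib

noncomputable section

namespace Groth.Agent.PicAVLib

variable {K : Type u} [Field K] {A B G : Over (Spec (CommRingCat.of K))}

theorem isPullback_whiskerRight (q : A ⟶ B) (T : Over (Spec (CommRingCat.of K))) :
    IsPullback (fst A T).left (q ▷ T).left q.left (fst B T).left := by
  refine IsPullback.of_bot ?_ (by rw [← Over.comp_left, ← Over.comp_left, whiskerRight_fst])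
    (IsPullback.of_hasPullback B.hom T.hom)
  rw [show (q ▷ T).left ≫ pullback.snd B.hom T.hom = (snd A T).left from
    congrArg CommaMorphism.left (whiskerRight_snd q T), Over.w q]
  exact IsPullback.of_hasPullback A.hom T.hom

variable [GrpObj A] [GrpObj B] [GrpObj G]

/-- The first point of the universal pair over the kernel. -/
def tp (T : Over (Spec (CommRingCat.of K))) : A ⊗ (G ⊗ T) ⟶ A ⊗ T :=
  lift (fst A (G ⊗ T)) (snd A (G ⊗ T) ≫ snd G T)

/-- The second point of the universal pair over the kernel. -/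
def tm (κ : G ⟶ A) (T : Over (Spec (CommRingCat.of K))) : A ⊗ (G ⊗ T) ⟶ A ⊗ T :=
  lift (fst A (G ⊗ T) * (snd A (G ⊗ T) ≫ fst G T ≫ κ)) (snd A (G ⊗ T) ≫ snd G T)

variable (q : A ⟶ B) [IsMonHom q] (κ : G ⟶ A) [IsMonHom κ] (hker : AlgGrp.IsKernel κ q)

include hker in
theorem isPullback_tm (T : Over (Spec (CommRingCat.of K))) :
    IsPullback (tp (A := A) (G := G) T) (tm κ T) (q ▷ T) (q ▷ T) := by
  have hκ1 : κ ≫ q = 1 := by rw [hker.w, Hom.one_def]
  have w : tp (A := A) (G := G) T ≫ q ▷ T = tm κ T ≫ q ▷ T := by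
    apply CartesianMonoidalCategory.hom_ext
    · simp only [tp, tm, Category.assoc, whiskerRight_fst, lift_fst_assoc]
      rw [MonObj.mul_comp, Category.assoc, Category.assoc, hκ1, MonObj.comp_one, MonObj.comp_one, _root_.mul_one]
    · simp only [tp, tm, Category.assoc, whiskerRight_snd, lift_snd]
  have hd : ∀ (s : PullbackCone (q ▷ T) (q ▷ T)), ∃ r : s.pt ⟶ G,
      r ≫ κ = (s.fst ≫ fst A T)⁻¹ * (s.snd ≫ fst A T) := fun s => by
    have h := congrArg (· ≫ fst B T) s.condition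
    simp only [Category.assoc, whiskerRight_fst] at h
    refine ⟨hker.lift _ (toUnit _) ?_, hker.lift_fst _ _ _⟩
    rw [MonObj.mul_comp, GrpObj.inv_comp, Category.assoc, Category.assoc, h, inv_mul_cancel, Hom.one_def]
  choose r hr using hd
  have hsnd : ∀ (s : PullbackCone (q ▷ T) (q ▷ T)), s.snd ≫ snd A T = s.fst ≫ snd A T := fun s => by
    have h := congrArg (· ≫ snd B T) s.condition
    simp only [Category.assoc, whiskerRight_snd] at h
    exact h.symm
  haveI : Mono κ := hker.mono_fst_of_mono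
  refine IsPullback.of_isLimit' ⟨w⟩ (PullbackCone.IsLimit.mk _
    (fun s => lift (s.fst ≫ fst A T) (lift (r s) (s.fst ≫ snd A T))) (fun s => ?_) (fun s => ?_) (fun s m h₁ h₂ => ?_))
  · apply CartesianMonoidalCategory.hom_ext
    · simp [tp]
    · simp [tp]
  · apply CartesianMonoidalCategory.hom_ext
    · simp only [tm, Category.assoc, lift_fst]
      rw [MonObj.comp_mul, lift_fst, lift_snd_assoc, lift_fst_assoc, hr, mul_inv_cancel_left]
    · simp [tm, hsnd]
  · subst_vars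
    have e₁ : s.fst ≫ fst A T = m ≫ fst A (G ⊗ T) := by rw [← h₁, Category.assoc, tp, lift_fst]
    have e₂ : s.fst ≫ snd A T = m ≫ snd A (G ⊗ T) ≫ snd G T := by rw [← h₁, Category.assoc, tp, lift_snd]
    apply CartesianMonoidalCategory.hom_ext
    · rw [lift_fst, e₁]
    · rw [lift_snd]
      apply CartesianMonoidalCategory.hom_ext
      · rw [lift_fst, ← cancel_mono κ, hr, e₁, ← h₂]
        simp only [tm, Category.assoc, lift_fst, MonObj.comp_mul]
        rw [inv_mul_cancel_left]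
      · rw [lift_snd, e₂, Category.assoc]

include hker in
theorem isPullback_tm_left (T : Over (Spec (CommRingCat.of K))) :
    IsPullback (tp (A := A) (G := G) T).left (tm κ T).left (q ▷ T).left (q ▷ T).left :=
  (isPullback_tm q κ hker T).map (Over.forget _)

/-- The value of a ratio on the kernel. -/
def res (T : Over (Spec (CommRingCat.of K))) (hκ : κ ≫ q = 1) (v : Γ(pullback (q ▷ T).left (q ▷ T).left, ⊤)) :
    Γ((G ⊗ T).left, ⊤) :=
  val2 (q ▷ T).left v (lift (1 : G ⊗ T ⟶ A) (snd G T)).left (lift (fst G T ≫ κ) (snd G T)).left (by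
    rw [← Over.comp_left, ← Over.comp_left]
    congr 1
    apply CartesianMonoidalCategory.hom_ext
    · simp [hκ, MonObj.one_comp, MonObj.comp_one]
    · simp)

/-- `x` is the character of `d`: the ratio of a frame of the inverse image, on the kernel. -/
def IsCharOf (T : Over (Spec (CommRingCat.of K))) (hκ : κ ≫ q = 1) (d : Pic (B ⊗ T).left)
    (x : Γ((G ⊗ T).left, ⊤)) : Prop :=
  ∃ (L : (B ⊗ T).left.Modules) (hL : PicF.IsInvertible L)
    (σ : Γ((Scheme.Modules.pullback (q ▷ T).left).obj L, (q ▷ T).left ⁻¹ᵁ ⊤))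
    (v : Γ(pullback (q ▷ T).left (q ▷ T).left, ⊤)),
    cls hL = d ∧ Gen ((q ▷ T).left ⁻¹ᵁ ⊤) σ ∧ IsUnit v ∧ Cocycle (q ▷ T).left v ∧ res q κ T hκ v = x ∧
    ∀ (W : (B ⊗ T).left.Opens) (t : Γ(L, W)) (_ : Gen W t) (r : Γ((A ⊗ T).left, (q ▷ T).left ⁻¹ᵁ W))
      (_ : IsCoef (q ▷ T).left le_top t σ r) (S : Scheme.{u}) (a b : S ⟶ (A ⊗ T).left)
      (ea : ∀ s, a s ∈ (q ▷ T).left ⁻¹ᵁ W) (eb : ∀ s, b s ∈ (q ▷ T).left ⁻¹ᵁ W)
      (w : a ≫ (q ▷ T).left = b ≫ (q ▷ T).left), val2 (q ▷ T).left v a b w * ev a ea r = ev b eb r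

variable [Surjective q.left] [IsFinite q.left] [Flat q.left]

omit [GrpObj A] [GrpObj B] [IsMonHom q] in
theorem isFpqc_whiskerRight (T : Over (Spec (CommRingCat.of K))) : SchDesc.IsFpqc (q ▷ T).left := by
  haveI : Surjective (q ▷ T).left :=
    MorphismProperty.of_isPullback (P := @Surjective) (isPullback_whiskerRight q T) inferInstance
  haveI : Flat (q ▷ T).left :=
    MorphismProperty.of_isPullback (P := @Flat) (isPullback_whiskerRight q T) inferInstance
  haveI : IsFinite (q ▷ T).left :=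
    MorphismProperty.of_isPullback (P := @IsFinite) (isPullback_whiskerRight q T) inferInstance
  haveI : QuasiCompact (q ▷ T).left := inferInstance
  exact SchDesc.IsFpqc.of_quasiCompact _

include hker in
theorem exists_isCharOf (T : Over (Spec (CommRingCat.of K))) (hκ : κ ≫ q = 1) (d : Pic (B ⊗ T).left)
    (hd : pull (q ▷ T).left d = 1) : ∃ x, IsCharOf q κ T hκ d x := by
  haveI := isFpqc_whiskerRight q T
  obtain ⟨L, hL, rfl⟩ := exists_cls d
  rw [pull_cls, cls_eq_one, ← CubeLib.triv_iff] at hd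
  obtain ⟨σ, hσ⟩ := hd
  obtain ⟨v, hvu, hvc, hv⟩ := exists_ratio (q ▷ T).left hL (σ := σ) hσ
  exact ⟨_, L, hL, σ, v, rfl, hσ, hvu, hvc, rfl, hv⟩

variable [IsProper A.hom] [GeometricallyIntegral A.hom]

omit [GrpObj A] in
theorem bijective_appTop_snd (U : Over (Spec (CommRingCat.of K))) [IsAffine U.left] :
    Function.Bijective (snd A U).left.appTop.hom := by
  haveI : CompactSpace A.left := QuasiCompact.compactSpace_of_compactSpace A.hom
  haveI : QuasiSeparatedSpace A.left := quasiSeparatedSpace_of_quasiSeparated A.hom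
  refine RigidLib.bijective_appTop_of_isPullback (IsPullback.of_hasPullback A.hom U.hom) ?_
  exact (Function.Bijective.of_comp_iff _
    (ConcreteCategory.bijective_of_isIso (Scheme.ΓSpecIso (CommRingCat.of K)).inv)).1 (AVLib.bijective_appTop A.hom)

omit [Surjective q.left] [IsFinite q.left] [Flat q.left] in
/-- A ratio is its value on the kernel, spread over the universal pair. -/
theorem val2_univ (T : Over (Spec (CommRingCat.of K))) [IsAffine (G ⊗ T).left] (hκ : κ ≫ q = 1)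
    (v : Γ(pullback (q ▷ T).left (q ▷ T).left, ⊤))
    (w : (tp (A := A) (G := G) T).left ≫ (q ▷ T).left = (tm κ T).left ≫ (q ▷ T).left) :
    val2 (q ▷ T).left v (tp (A := A) (G := G) T).left (tm κ T).left w =
      (snd A (G ⊗ T)).left.appTop (res q κ T hκ v) := by
  obtain ⟨z, hz⟩ := (bijective_appTop_snd (A := A) (G ⊗ T)).2
    (val2 (q ▷ T).left v (tp (A := A) (G := G) T).left (tm κ T).left w)
  let s : G ⊗ T ⟶ A ⊗ (G ⊗ T) := lift (1 : G ⊗ T ⟶ A) (𝟙 _)
  have h1 : s ≫ tp (A := A) (G := G) T = lift (1 : G ⊗ T ⟶ A) (snd G T) := by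
    apply CartesianMonoidalCategory.hom_ext <;> simp [s, tp]
  have h2 : s ≫ tm κ T = lift (fst G T ≫ κ) (snd G T) := by
    apply CartesianMonoidalCategory.hom_ext
    · simp [s, tm, MonObj.comp_mul]
    · simp [s, tm]
  have e := val2_comp (q ▷ T).left v s.left _ _ w (lift (1 : G ⊗ T ⟶ A) (snd G T)).left
    (lift (fst G T ≫ κ) (snd G T)).left (by rw [← Over.comp_left, h1]) (by rw [← Over.comp_left, h2])
    (by rw [← h1, ← h2, Over.comp_left, Over.comp_left, Category.assoc, Category.assoc, w])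
  have e' : s.left.appTop ((snd A (G ⊗ T)).left.appTop.hom z) = z := by
    show ((snd A (G ⊗ T)).left.appTop ≫ s.left.appTop) z = z
    rw [← Scheme.Hom.comp_appTop, ← Over.comp_left, lift_snd]
    rfl
  rw [← hz] at e ⊢
  rw [e'] at e
  rw [e]
  rfl

omit [Surjective q.left] [IsFinite q.left] [Flat q.left] in
/-- Characters are multiplicative. -/
theorem IsCharOf.mult {T : Over (Spec (CommRingCat.of K))} [IsAffine (G ⊗ T).left] {hκ : κ ≫ q = 1}
    {d : Pic (B ⊗ T).left} {x : Γ((G ⊗ T).left, ⊤)} (h : IsCharOf q κ T hκ d x) :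
    (lift (fst G (G ⊗ T) * (snd G (G ⊗ T) ≫ fst G T)) (snd G (G ⊗ T) ≫ snd G T)).left.appTop x =
      (lift (fst G (G ⊗ T)) (snd G (G ⊗ T) ≫ snd G T)).left.appTop x * (snd G (G ⊗ T)).left.appTop x := by
  obtain ⟨L, hL, σ, v, -, -, -, hvc, rfl, -⟩ := h
  let g := (q ▷ T).left
  let a : G ⊗ (G ⊗ T) ⟶ A := fst G (G ⊗ T) ≫ κ
  let b : G ⊗ (G ⊗ T) ⟶ A := snd G (G ⊗ T) ≫ fst G T ≫ κ
  let τ : G ⊗ (G ⊗ T) ⟶ T := snd G (G ⊗ T) ≫ snd G T
  have ha : a ≫ q = 1 := by rw [Category.assoc, hκ, MonObj.comp_one]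
  have hb : b ≫ q = 1 := by rw [Category.assoc, Category.assoc, hκ, MonObj.comp_one, MonObj.comp_one]
  have hw : ∀ (c c' : G ⊗ (G ⊗ T) ⟶ A), c ≫ q = 1 → c' ≫ q = 1 →
      (lift c τ).left ≫ g = (lift c' τ).left ≫ g := fun c c' hc hc' => by
    show (lift c τ).left ≫ (q ▷ T).left = (lift c' τ).left ≫ (q ▷ T).left
    rw [← Over.comp_left, ← Over.comp_left, lift_whiskerRight, lift_whiskerRight, hc, hc']
  have w₁ := hw 1 a (MonObj.one_comp q) ha
  have w₂ := hw a (a * b) ha (by rw [MonObj.mul_comp, ha, hb, _root_.one_mul])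
  let n : G ⊗ (G ⊗ T) ⟶ A ⊗ (G ⊗ T) := lift a (snd G (G ⊗ T))
  have hn1 : n ≫ tp (A := A) (G := G) T = lift a τ := by
    apply CartesianMonoidalCategory.hom_ext <;> simp [n, tp, τ]
  have hn2 : n ≫ tm κ T = lift (a * b) τ := by
    apply CartesianMonoidalCategory.hom_ext
    · simp [n, tm, MonObj.comp_mul, b]
    · simp [n, tm, τ]
  have w₀ : (tp (A := A) (G := G) T).left ≫ g = (tm κ T).left ≫ g := by
    show (tp (A := A) (G := G) T).left ≫ (q ▷ T).left = (tm κ T).left ≫ (q ▷ T).left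
    rw [← Over.comp_left, ← Over.comp_left]
    congr 1
    apply CartesianMonoidalCategory.hom_ext
    · simp only [tp, tm, Category.assoc, whiskerRight_fst, lift_fst_assoc]
      rw [MonObj.mul_comp, Category.assoc, Category.assoc, hκ, MonObj.comp_one, MonObj.comp_one, _root_.mul_one]
    · simp only [tp, tm, Category.assoc, whiskerRight_snd, lift_snd]
  have e0 := hvc _ (lift (1 : _ ⟶ A) τ).left (lift a τ).left (lift (a * b) τ).left w₁ w₂
  have k0 : ∀ (c : G ⊗ (G ⊗ T) ⟶ G) (c' : G ⊗ (G ⊗ T) ⟶ A) (hc : c ≫ κ = c')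
      (w : (lift (1 : _ ⟶ A) τ).left ≫ g = (lift c' τ).left ≫ g),
      (lift c τ).left.appTop (res q κ T hκ v) = val2 g v (lift (1 : _ ⟶ A) τ).left (lift c' τ).left w :=
    fun c c' hc w => by
      refine val2_comp g v (lift c τ).left _ _ _ _ _ ?_ ?_ w
      · rw [← Over.comp_left]; congr 1; apply CartesianMonoidalCategory.hom_ext <;> simp [MonObj.comp_one]
      · rw [← Over.comp_left]; congr 1; apply CartesianMonoidalCategory.hom_ext <;> simp [hc]
  rw [k0 (fst G (G ⊗ T) * (snd G (G ⊗ T) ≫ fst G T)) (a * b) (by rw [MonObj.mul_comp, Category.assoc]) (w₁.trans w₂),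
    k0 (fst G (G ⊗ T)) a rfl w₁]
  rw [← e0, ← val2_comp g v n.left _ _ w₀ (lift a τ).left (lift (a * b) τ).left
    (by rw [← Over.comp_left, hn1]) (by rw [← Over.comp_left, hn2]) w₂, val2_univ q κ T hκ v w₀]
  congr 1
  show ((snd A (G ⊗ T)).left.appTop ≫ n.left.appTop) _ = _
  rw [← Scheme.Hom.comp_appTop, ← Over.comp_left, lift_snd]

omit [Surjective q.left] [IsFinite q.left] [Flat q.left] [IsProper A.hom] [GeometricallyIntegral A.hom] in
/-- A character takes the value one at the origin. -/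
theorem IsCharOf.at_one {T : Over (Spec (CommRingCat.of K))} {hκ : κ ≫ q = 1}
    {d : Pic (B ⊗ T).left} {x : Γ((G ⊗ T).left, ⊤)} (h : IsCharOf q κ T hκ d x) :
    (lift (1 : T ⟶ G) (𝟙 T)).left.appTop x = 1 := by
  obtain ⟨L, hL, σ, v, -, -, hvu, hvc, rfl, -⟩ := h
  let a := (lift (1 : T ⟶ A) (𝟙 T)).left
  have h1 : (lift (1 : T ⟶ G) (𝟙 T)).left.appTop (res q κ T hκ v) = val2 (q ▷ T).left v a a rfl := by
    refine val2_comp (q ▷ T).left v (lift (1 : T ⟶ G) (𝟙 T)).left _ _ _ _ _ ?_ ?_ rfl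
    · rw [← Over.comp_left]; congr 1; apply CartesianMonoidalCategory.hom_ext <;> simp [MonObj.comp_one]
    · rw [← Over.comp_left]; congr 1; apply CartesianMonoidalCategory.hom_ext <;> simp [MonObj.one_comp]
  rw [h1]
  exact (isUnit_val2 _ hvu a a rfl).mul_left_cancel ((hvc _ a a a rfl rfl).trans (_root_.mul_one _).symm)

include hker in
/-- Classes with the same character after a base change agree after that base change. -/
theorem IsCharOf.pull_eq {T₁ T₂ T' : Over (Spec (CommRingCat.of K))} [IsAffine (G ⊗ T₁).left] [IsAffine (G ⊗ T₂).left]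
    {hκ : κ ≫ q = 1} {d₁ : Pic (B ⊗ T₁).left} {d₂ : Pic (B ⊗ T₂).left} {x₁ : Γ((G ⊗ T₁).left, ⊤)}
    {x₂ : Γ((G ⊗ T₂).left, ⊤)} (h₁ : IsCharOf q κ T₁ hκ d₁ x₁) (h₂ : IsCharOf q κ T₂ hκ d₂ x₂)
    (t₁ : T' ⟶ T₁) (t₂ : T' ⟶ T₂) (hx : (G ◁ t₁).left.appTop x₁ = (G ◁ t₂).left.appTop x₂) :
    pull (B ◁ t₁).left d₁ = pull (B ◁ t₂).left d₂ := by
  obtain ⟨L₁, hL₁, σ₁, v₁, rfl, hσ₁, -, -, rfl, hv₁⟩ := h₁
  obtain ⟨L₂, hL₂, σ₂, v₂, rfl, hσ₂, -, -, rfl, hv₂⟩ := h₂
  haveI := isFpqc_whiskerRight q T'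
  rw [pull_cls, pull_cls, cls_eq_cls]
  have hsq : ∀ {T : Over (Spec (CommRingCat.of K))} (t : T' ⟶ T),
      (A ◁ t).left ≫ (q ▷ T).left = (q ▷ T').left ≫ (B ◁ t).left := fun t => by
    rw [← Over.comp_left, ← Over.comp_left, whisker_exchange]
  refine nonempty_iso_of_ratio_pullback (q ▷ T₁).left (q ▷ T₂).left (q ▷ T').left _ (A ◁ t₁).left (hsq t₁)
    _ (A ◁ t₂).left (hsq t₂) hL₁ hσ₁ v₁ hv₁ hL₂ hσ₂ v₂ hv₂ fun S a b w => ?_
  let l := (isPullback_tm_left q κ hker T').lift a b w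
  have la : l ≫ (tp (A := A) (G := G) T').left = a := (isPullback_tm_left q κ hker T').lift_fst _ _ _
  have lb : l ≫ (tm κ T').left = b := (isPullback_tm_left q κ hker T').lift_snd _ _ _
  have key : ∀ {T : Over (Spec (CommRingCat.of K))} [IsAffine (G ⊗ T).left] (t : T' ⟶ T)
      (v : Γ(pullback (q ▷ T).left (q ▷ T).left, ⊤))
      (w' : (a ≫ (A ◁ t).left) ≫ (q ▷ T).left = (b ≫ (A ◁ t).left) ≫ (q ▷ T).left),
      val2 (q ▷ T).left v (a ≫ (A ◁ t).left) (b ≫ (A ◁ t).left) w' =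
        (l ≫ (snd A (G ⊗ T')).left).appTop ((G ◁ t).left.appTop (res q κ T hκ v)) := by
    intro T _ t v w'
    have ep : (A ◁ (G ◁ t)) ≫ tp (A := A) (G := G) T = tp (A := A) (G := G) T' ≫ A ◁ t := by
      apply CartesianMonoidalCategory.hom_ext <;> simp [tp]
    have em : (A ◁ (G ◁ t)) ≫ tm κ T = tm κ T' ≫ A ◁ t := by
      apply CartesianMonoidalCategory.hom_ext
      · simp [tm, MonObj.comp_mul]
      · simp [tm]
    have w₀ : (tp (A := A) (G := G) T).left ≫ (q ▷ T).left = (tm κ T).left ≫ (q ▷ T).left :=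
      (isPullback_tm_left q κ hker T).w
    rw [← val2_comp (q ▷ T).left v (l ≫ (A ◁ (G ◁ t)).left) _ _ w₀ _ _
      (by rw [Category.assoc, ← Over.comp_left, ep, Over.comp_left, ← Category.assoc, la])
      (by rw [Category.assoc, ← Over.comp_left, em, Over.comp_left, ← Category.assoc, lb]) w',
      val2_univ q κ T hκ v w₀]
    show ((snd A (G ⊗ T)).left.appTop ≫ (l ≫ (A ◁ (G ◁ t)).left).appTop) _ =
      ((G ◁ t).left.appTop ≫ (l ≫ (snd A (G ⊗ T')).left).appTop) _
    rw [← Scheme.Hom.comp_appTop, ← Scheme.Hom.comp_appTop, Category.assoc, Category.assoc, ← Over.comp_left,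
      ← Over.comp_left, whiskerLeft_snd]
  rw [key t₁ v₁, key t₂ v₂, hx]

end Groth.Agent.PicAVLib
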