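import Groth.Agent.PicAVLib.NormTriv
import Groth.Agent.InvExt.Compl
import Groth.Agent.PicAVLib.LineGen
import Groth.Agent.RegLocal.UFD
import Groth.Agent.S1684
import Groth.Agent.AmpleLib.Separated
import Mathlib.RingTheory.DiscreteValuationRing.Basic

/-!
# Trivialisations extend over a prime divisor up to powers of its class
-/

set_option autoImplicit false
set_option backward.isDefEq.respectTransparency false
set_option linter.style.haveILetI false
set_option maxHeartbeats 1000000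

universe u

open CategoryTheory CategoryTheory.Limits AlgebraicGeometry TopologicalSpace Opposite
open Groth.Agent.PicLib Groth.Agent.AmpleLib Groth.Agent.ParaFLib Groth.Agent.DCohLib Groth.Agent.InvExt

noncomputable section

namespace Groth.Agent.PicAVLib

variable {X : Scheme.{u}} [IsIntegral X]

/-- An irreducible closed set with one-dimensional local ring at the generic point carries an effective divisor. -/
theorem exists_effCartier_irred [IsLocallyNoetherian X]
    (hufd : ∀ x : X, IsDomain (X.presheaf.stalk x) ∧ UniqueFactorizationMonoid (X.presheaf.stalk x))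
    {W : Set X} (hW : IsClosed W) {η : X} (hη : IsGenericPoint η W) (hne : W ≠ Set.univ)
    (hd : ringKrullDim (X.presheaf.stalk η) ≤ 1) :
    ∃ 𝓘 : X.IdealSheafData, BlowUp.IsEffCartierIdeal 𝓘 ∧ (𝓘.support : Set X) = W ∧
      𝓘 = Scheme.IdealSheafData.vanishingIdeal ⟨W, hW⟩ := by
  let T : Closeds X := ⟨W, hW⟩
  let 𝓘 := Scheme.IdealSheafData.vanishingIdeal T
  have hsupp : (𝓘.support : Set X) = W := Scheme.IdealSheafData.coe_support_vanishingIdeal T
  refine ⟨𝓘, fun x => ?_, hsupp, rfl⟩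
  by_cases hx : x ∈ 𝓘.support
  swap
  · exact exists_cartier_nhd_of_not_mem hx
  obtain ⟨_, _⟩ := hufd x
  refine exists_cartier_nhd 𝓘 x (fun Wx hxW hint hbot => ?_) (fun Wx hxW hint a ha q hq hqx hcol => ?_)
  · refine hne (Set.eq_univ_of_forall fun y => ?_)
    have hg : genericPoint X ∈ Wx.1 :=
      ((genericPoint_spec X).mem_open_set_iff Wx.1.2).2 ⟨x, trivial, hxW⟩
    have hgW : genericPoint X ∈ W := by
      rw [← hsupp]
      exact (mem_support_iff_le Wx _ hg).2 (hbot ▸ bot_le)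
    exact ((genericPoint_spec X).specializes trivial).mem_closed hW hgW
  · haveI : IsNoetherianRing Γ(X, Wx.1) := IsLocallyNoetherian.component_noetherian Wx
    have hI : ∀ (z : X) (hz : z ∈ Wx.1), z ∈ W ↔ 𝓘.ideal Wx ≤ (Wx.2.primeIdealOf ⟨z, hz⟩).asIdeal := fun z hz => by
      rw [← mem_support_iff_le Wx z hz, ← SetLike.mem_coe (x := z) (p := 𝓘.support), hsupp]
    have hrad : (𝓘.ideal Wx).radical ≤ 𝓘.ideal Wx := by
      intro r hr
      obtain ⟨n, hn⟩ := hr
      rw [Scheme.IdealSheafData.vanishingIdeal_ideal, PrimeSpectrum.mem_vanishingIdeal] at hn ⊢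
      exact fun p hp => p.isPrime.mem_of_pow_mem n (hn p hp)
    have haQ : a ∉ (Wx.2.primeIdealOf ⟨q, hq⟩).asIdeal := fun haQ =>
      ha (hrad ⟨2, by rw [pow_two]; exact (hcol a).2 haQ⟩)
    have hqW : q ∈ W := (hI q hq).2 fun r hr => (hcol r).1 (Ideal.mul_mem_right _ _ hr)
    have hηq : η ⤳ q := hη.specializes hqW
    have hηWx : η ∈ Wx.1 := hηq.mem_open Wx.1.2 hq
    have hle : (Wx.2.primeIdealOf ⟨η, hηWx⟩).asIdeal ≤ (Wx.2.primeIdealOf ⟨q, hq⟩).asIdeal := by
      refine (PrimeSpectrum.le_iff_specializes _ _).2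
        (Wx.2.fromSpec.isOpenEmbedding.isInducing.specializes_iff.1 ?_)
      rw [Wx.2.fromSpec_primeIdealOf, Wx.2.fromSpec_primeIdealOf]
      exact hηq
    have heq : (⟨η, hηWx⟩ : Wx.1) = ⟨q, hq⟩ := by
      have h' : Wx.2.primeIdealOf ⟨η, hηWx⟩ = Wx.2.primeIdealOf ⟨q, hq⟩ := by
        refine PrimeSpectrum.ext (le_antisymm hle fun r hr => ?_)
        have h1 : r * a ∈ (Wx.2.primeIdealOf ⟨η, hηWx⟩).asIdeal := (hI η hηWx).1 hη.mem ((hcol r).2 hr)
        exact ((inferInstance : (Wx.2.primeIdealOf ⟨η, hηWx⟩).asIdeal.IsPrime).mem_or_mem h1).resolve_right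
          fun h => haQ (hle h)
      apply Subtype.ext
      have := congrArg Wx.2.fromSpec h'
      rwa [Wx.2.fromSpec_primeIdealOf, Wx.2.fromSpec_primeIdealOf] at this
    obtain rfl : η = q := congrArg Subtype.val heq
    obtain ⟨_, _⟩ := hufd η
    letI : Algebra Γ(X, Wx.1) (X.presheaf.stalk η) := TopCat.Presheaf.algebra_section_stalk X.presheaf ⟨η, hq⟩
    haveI := Wx.2.isLocalization_stalk ⟨η, hq⟩
    haveI := isPrincipalIdealRing_of_dim_le_one (X.presheaf.stalk η) hd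
    exact principalAt_of_isPrincipal_loc _ _ (X.presheaf.stalk η) (IsPrincipalIdealRing.principal _)

/-- A basis of the structure module is a unit. -/
theorem isUnit_of_gen {U : X.Opens} {u : Γ(X, U)}
    (h : Gen (L := Coh.structureModule X) U (show Γ(Coh.structureModule X, U) from u)) : IsUnit u := by
  obtain ⟨r, hr⟩ := (h U le_rfl).2 (show Γ(Coh.structureModule X, U) from (1 : Γ(X, U)))
  simp only [res_self] at hr
  exact IsUnit.of_mul_eq_one r ((mul_comm u r).trans hr)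

/-- An invertible multiple of a basis is a basis. -/
theorem gen_unit_smul {L : X.Modules} {U : X.Opens} {s : Γ(L, U)} (hs : Gen U s) {c : Γ(X, U)} (hc : IsUnit c) :
    Gen U (c • s) := fun O hO => by
  have hu : IsUnit (X.presheaf.map (homOfLE hO).op c) := hc.map _
  have hbij : Function.Bijective fun r : Γ(X, O) => r * X.presheaf.map (homOfLE hO).op c :=
    ⟨fun x y h => hu.mul_right_cancel h, fun y => ⟨y * ↑hu.unit⁻¹, by simp [_root_.mul_assoc]⟩⟩
  convert! (hs O hO).comp hbij using 1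
  funext r
  simp only [Function.comp_apply, Scheme.Modules.map_smul, smul_smul]

/-- A class with bases on an open and near a point whose ratio is a given rational function. -/
def HasRatio (a : Pic X) (U : X.Opens) (η : X) (q : X.functionField) : Prop :=
  ∃ (M : X.Modules) (hM : PicF.IsInvertible M) (V : X.Opens) (τ : Γ(M, U)) (t : Γ(M, V)) (x : Γ(X, U ⊓ V)),
    cls hM = a ∧ η ∈ V ∧ Gen U τ ∧ Gen V t ∧
      M.presheaf.map (homOfLE (inf_le_left : U ⊓ V ≤ U)).op τ =
        x • M.presheaf.map (homOfLE (inf_le_right : U ⊓ V ≤ V)).op t ∧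
      ∃ h : genericPoint X ∈ U ⊓ V, X.presheaf.germ (U ⊓ V) _ h x = q

theorem HasRatio.ne_zero {a : Pic X} {U : X.Opens} {η : X} {q : X.functionField} (h : HasRatio a U η q) : q ≠ 0 := by
  obtain ⟨M, hM, V, τ, t, x, -, -, hτ, ht, hx, hg, rfl⟩ := h
  obtain ⟨y, hy⟩ := (hτ.res (inf_le_left : U ⊓ V ≤ U) (U ⊓ V) le_rfl).2
    (M.presheaf.map (homOfLE (inf_le_right : U ⊓ V ≤ V)).op t)
  simp only [res_self] at hy
  rw [hx, smul_smul] at hy
  have h1 : y * x = 1 := (ht.res (inf_le_right : U ⊓ V ≤ V) (U ⊓ V) le_rfl).1 (by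
    simp only [res_self, one_smul]; exact hy)
  exact (((IsUnit.of_mul_eq_one y ((mul_comm x y).trans h1))).map _).ne_zero

theorem HasRatio.mul {a b : Pic X} {U : X.Opens} {η : X} {q r : X.functionField} (h : HasRatio a U η q)
    (h' : HasRatio b U η r) : HasRatio (a * b) U η (q * r) := by
  obtain ⟨M, hM, V, τ, t, x, rfl, hηV, hτ, ht, hx, hg, rfl⟩ := h
  obtain ⟨M', hM', V', τ', t', x', rfl, hηV', hτ', ht', hx', hg', rfl⟩ := h'
  have h1 : U ⊓ (V ⊓ V') ≤ U ⊓ V := inf_le_inf_left U inf_le_left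
  have h2 : U ⊓ (V ⊓ V') ≤ U ⊓ V' := inf_le_inf_left U inf_le_right
  refine ⟨tmod M M', isInvertible_tensor hM hM', V ⊓ V', pairS M M' τ τ',
    pairS M M' (M.presheaf.map (homOfLE inf_le_left).op t) (M'.presheaf.map (homOfLE inf_le_right).op t'),
    X.presheaf.map (homOfLE h1).op x * X.presheaf.map (homOfLE h2).op x', cls_tensor hM hM', ⟨hηV, hηV'⟩,
    gen_pairS hτ hτ', gen_pairS (ht.res _) (ht'.res _), ?_, ⟨hg.1, hg.2, hg'.2⟩, ?_⟩
  · have e1 := congrArg (M.presheaf.map (homOfLE h1).op) hx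
    have e2 := congrArg (M'.presheaf.map (homOfLE h2).op) hx'
    simp only [Scheme.Modules.map_smul, res_res] at e1 e2
    rw [res_pairS, res_pairS, res_res, res_res, e1, e2, pairS_smul_left, pairS_smul_right, smul_smul]
  · rw [map_mul, TopCat.Presheaf.germ_res_apply, TopCat.Presheaf.germ_res_apply]

theorem HasRatio.pow {a : Pic X} {U : X.Opens} {η : X} {q : X.functionField} (h : HasRatio a U η q) (n : ℕ) :
    HasRatio (a ^ n) U η (q ^ n) := by
  obtain ⟨M, hM, V, τ, t, x, rfl, hηV, hτ, ht, hx, hg, rfl⟩ := h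
  refine ⟨CohB1.tensorPow M n, isInvertible_tensorPow hM n, V, powLoc τ n, powLoc t n, x ^ n, cls_tensorPow hM n,
    hηV, gen_powLoc hτ n, gen_powLoc ht n, ?_, hg, map_pow _ x n⟩
  rw [powLoc_res, powLoc_res, hx, powLoc_smul]

theorem HasRatio.inv {a : Pic X} {U : X.Opens} {η : X} {q : X.functionField} (h : HasRatio a U η q) :
    HasRatio a⁻¹ U η q⁻¹ := by
  have hq := h.ne_zero
  obtain ⟨M, hM, V, τ, t, x, rfl, hηV, hτ, ht, hx, hg, rfl⟩ := h
  obtain ⟨M', hM', hM'a⟩ := exists_cls (cls hM)⁻¹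
  obtain ⟨φ⟩ := (cls_eq_one (isInvertible_tensor hM hM')).1 (by rw [cls_tensor hM hM', hM'a, mul_inv_cancel])
  obtain ⟨τ₀, hτ₀⟩ := exists_gen_of_pull_ι hM' U (by
    rw [hM'a, map_inv, pull_ι_eq_one_of_gen hM U hτ, inv_one])
  obtain ⟨t₀, ht₀⟩ := exists_gen_of_pull_ι hM' V (by
    rw [hM'a, map_inv, pull_ι_eq_one_of_gen hM V ht, inv_one])
  have key : ∀ (W : X.Opens) (s : Γ(M, W)) (s' : Γ(M', W)), Gen W s → Gen W s' →
      ∃ s'' : Γ(M', W), Gen W s'' ∧ φ.hom.app W (pairS M M' s s'') = (1 : Γ(X, W)) := by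
    intro W s s' hs hs'
    let u : Γ(X, W) := φ.hom.app W (pairS M M' s s')
    have hu : IsUnit u := isUnit_of_gen (gen_map_iso φ (gen_pairS hs hs'))
    refine ⟨(↑hu.unit⁻¹ : Γ(X, W)) • s', gen_unit_smul hs' (Units.isUnit _), ?_⟩
    rw [pairS_smul_right, Scheme.Modules.Hom.app_smul]
    exact hu.val_inv_mul
  obtain ⟨τ', hτ', hτ1⟩ := key U τ τ₀ hτ hτ₀
  obtain ⟨t', ht', ht1⟩ := key V t t₀ ht ht₀
  let O := U ⊓ V
  obtain ⟨y, hy⟩ := (ht'.res (inf_le_right : O ≤ V) O le_rfl).2 (M'.presheaf.map (homOfLE inf_le_left).op τ')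
  simp only [res_self, res_res] at hy
  have hres : ∀ (W : X.Opens) (hW : O ≤ W) (s : Γ(M, W)) (s' : Γ(M', W)),
      φ.hom.app W (pairS M M' s s') = (1 : Γ(X, W)) →
      φ.hom.app O (pairS M M' (M.presheaf.map (homOfLE hW).op s) (M'.presheaf.map (homOfLE hW).op s')) =
        (1 : Γ(X, O)) := fun W hW s s' h1 => by
    rw [← res_pairS]
    refine (ConcreteCategory.congr_hom (φ.hom.mapPresheaf.naturality (homOfLE hW).op) _).trans ?_
    exact (congrArg ((Coh.structureModule X).presheaf.map (homOfLE hW).op) h1).trans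
      (map_one (X.presheaf.map (homOfLE hW).op).hom)
  have e1 := hres U inf_le_left τ τ' hτ1
  rw [hx, ← hy, pairS_smul_left, pairS_smul_right, Scheme.Modules.Hom.app_smul, Scheme.Modules.Hom.app_smul,
    hres V inf_le_right t t' ht1] at e1
  have hxy : x * y = 1 := by
    refine Eq.trans ?_ e1
    show x * y = x * (y * 1)
    rw [_root_.mul_one]
  refine ⟨M', hM', V, τ', t', y, hM'a, hηV, hτ', ht', hy.symm, hg, eq_inv_of_mul_eq_one_right ?_⟩
  rw [← map_mul, hxy, map_one]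

theorem HasRatio.exists_of_pull {a : Pic X} {U : X.Opens} (η : X) (hU : (U : Set X).Nonempty)
    (h : pull U.ι a = 1) : ∃ q, HasRatio a U η q := by
  obtain ⟨M, hM, rfl⟩ := exists_cls a
  obtain ⟨τ, hτ⟩ := exists_gen_of_pull_ι hM U h
  obtain ⟨V, t, hηV, ht⟩ := exists_gen_nhd hM η
  obtain ⟨x, hx⟩ := (ht.res (inf_le_right : U ⊓ V ≤ V) (U ⊓ V) le_rfl).2
    (M.presheaf.map (homOfLE inf_le_left).op τ)
  simp only [res_self] at hx
  exact ⟨_, M, hM, V, τ, t, x, rfl, hηV, hτ, ht, hx.symm,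
    ⟨AVLib.Deg.mem_of_open hU.some_mem, AVLib.Deg.mem_of_open hηV⟩, rfl⟩

/-- A ratio which is a unit at the point extends the trivialisation. -/
theorem HasRatio.extend {a : Pic X} {U : X.Opens} {η : X} {q : X.functionField} (h : HasRatio a U η q)
    (hq : AVLib.Deg.UnitAt η q) : ∃ U' : X.Opens, U ≤ U' ∧ η ∈ U' ∧ pull U'.ι a = 1 := by
  obtain ⟨M, hM, V, τ, t, x, rfl, hηV, hτ, ht, hx, hg, rfl⟩ := h
  obtain ⟨b, hb, hbx⟩ := hq
  obtain ⟨V₀, hηV₀, c, rfl⟩ := X.presheaf.exists_germ_eq b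
  let V' : X.Opens := X.basicOpen c ⊓ V
  have hηV' : η ∈ V' := ⟨(X.mem_basicOpen c η hηV₀).2 hb, hηV⟩
  let c' : Γ(X, V') := X.presheaf.map (homOfLE (inf_le_left.trans (X.basicOpen_le c))).op c
  have hc' : IsUnit c' := by
    have h1 := (RingedSpace.isUnit_res_basicOpen X.toRingedSpace c).map
      (X.presheaf.map (homOfLE (inf_le_left : V' ≤ X.basicOpen c)).op).hom
    convert h1 using 1
    show _ = X.presheaf.map _ (X.presheaf.map _ c)
    rw [← CommRingCat.comp_apply, ← Functor.map_comp]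
    rfl
  let t' : Γ(M, V') := c' • M.presheaf.map (homOfLE inf_le_right).op t
  have ht' : Gen V' t' := gen_unit_smul (ht.res _) hc'
  have hgV' : genericPoint X ∈ U ⊓ V' := ⟨hg.1, AVLib.Deg.mem_of_open hηV'⟩
  have hagree : M.presheaf.map (homOfLE (inf_le_left : U ⊓ V' ≤ U)).op τ =
      M.presheaf.map (homOfLE (inf_le_right : U ⊓ V' ≤ V')).op t' := by
    have h1 : U ⊓ V' ≤ U ⊓ V := inf_le_inf_left U inf_le_right
    have e1 := congrArg (M.presheaf.map (homOfLE h1).op) hx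
    simp only [Scheme.Modules.map_smul, res_res] at e1
    simp only [t', Scheme.Modules.map_smul, res_res]
    rw [e1]
    refine congrArg₂ (· • ·) ?_ (res_res _ _ _).symm
    haveI : Nonempty ↥(U ⊓ V') := ⟨⟨_, hgV'⟩⟩
    apply germ_injective_of_isIntegral X (genericPoint X) hgV'
    rw [TopCat.Presheaf.germ_res_apply, TopCat.Presheaf.germ_res_apply, TopCat.Presheaf.germ_res_apply, ← hbx]
    exact ConcreteCategory.congr_hom (X.presheaf.germ_stalkSpecializes hηV₀ (genericPoint_specializes η)) c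
  let Ws : ULift.{u} Bool → X.Opens := fun i => bif i.down then U else V'
  let ts : ∀ i, Γ(M, Ws i) := fun i => match i with
    | ⟨true⟩ => τ
    | ⟨false⟩ => t'
  have hle : ∀ i, Ws i ≤ U ⊔ V' := fun i => match i with
    | ⟨true⟩ => le_sup_left
    | ⟨false⟩ => le_sup_right
  have hcov : U ⊔ V' ≤ iSup Ws := sup_le (le_iSup Ws ⟨true⟩) (le_iSup Ws ⟨false⟩)
  have hcompat : ∀ i j, M.presheaf.map (homOfLE (inf_le_left : Ws i ⊓ Ws j ≤ Ws i)).op (ts i) =
      M.presheaf.map (homOfLE (inf_le_right : Ws i ⊓ Ws j ≤ Ws j)).op (ts j) := fun i j => by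
    match i, j with
    | ⟨true⟩, ⟨true⟩ => rfl
    | ⟨false⟩, ⟨false⟩ => rfl
    | ⟨true⟩, ⟨false⟩ => exact hagree
    | ⟨false⟩, ⟨true⟩ =>
      have e := congrArg (M.presheaf.map (homOfLE (le_of_eq (inf_comm V' U))).op) hagree
      simp only [res_res] at e
      exact e.symm
  let F : TopCat.Sheaf Ab.{u} X.carrier := ⟨M.presheaf, M.isSheaf⟩
  obtain ⟨T, hT, -⟩ := F.existsUnique_gluing' Ws (U ⊔ V') (fun i => homOfLE (hle i)) hcov ts hcompat
  refine ⟨U ⊔ V', le_sup_left, Or.inr hηV', pull_ι_eq_one_of_gen hM _ (τ := T)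
    (gen_of_cover Ws hle hcov fun i => ?_)⟩
  match i with
  | ⟨true⟩ => exact (hT ⟨true⟩ : _) ▸ hτ
  | ⟨false⟩ => exact (hT ⟨false⟩ : _) ▸ ht'

/-- Across a prime divisor, trivialisations extend up to the powers of one class. -/
theorem exists_extend_class [IsLocallyNoetherian X] [X.IsSeparated]
    (hreg : ∀ x : X, IsRegularLocalRing (X.presheaf.stalk x))
    {W : Set X} (hW : IsClosed W) {η : X} (hη : IsGenericPoint η W) (hne : W ≠ Set.univ)
    (hd : ringKrullDim (X.presheaf.stalk η) ≤ 1) :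
    ∃ (L : X.Modules) (hL : PicF.IsInvertible L) (σ : Coh.structureModule X ⟶ L),
      (CohB1.genLocus L σ : Set X) = Wᶜ ∧ ∀ (e : Pic X) (U : X.Opens), Disjoint (U : Set X) W →
        (U : Set X).Nonempty → pull U.ι e = 1 →
        ∃ (k : ℤ) (U' : X.Opens), U ≤ U' ∧ η ∈ U' ∧ pull U'.ι (e * cls hL ^ k) = 1 := by
  have hufd : ∀ x : X, IsDomain (X.presheaf.stalk x) ∧ UniqueFactorizationMonoid (X.presheaf.stalk x) := fun x => by
    haveI := hreg x
    exact ⟨inferInstance, RegLocal.ufd _⟩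
  obtain ⟨𝓘, h𝓘, hsupp, hI𝓘⟩ := exists_effCartier_irred hufd hW hη hne hd
  obtain ⟨L, σ, hL, hσ, hloc⟩ := exists_line_gen h𝓘
  have hgl : (CohB1.genLocus L σ : Set X) = Wᶜ := by
    rw [hσ]
    show (𝓘.support : Set X)ᶜ = _
    rw [hsupp]
  let R := X.presheaf.stalk η
  obtain ⟨_, _⟩ := hufd η
  haveI := isPrincipalIdealRing_of_dim_le_one R hd
  -- the section of the divisor
  have hηg : genericPoint X ∈ CohB1.genLocus L σ := by
    rw [← SetLike.mem_coe, hgl]
    exact fun hg => hne (Set.eq_univ_of_forall fun y => ((genericPoint_spec X).specializes trivial).mem_closed hW hg)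
  obtain ⟨Vη, a, t, hηV, ht, ha, hspan⟩ := hloc η
  let V : X.Opens := Vη.1
  have hηV' : genericPoint X ∈ V := AVLib.Deg.mem_of_open hηV
  let s : Γ(L, CohB1.genLocus L σ) := resT (sec σ) _
  have hs : Gen (CohB1.genLocus L σ) s := AmpleLib.gen_genLocus hL σ
  have ha0 : X.presheaf.germ V η hηV a ≠ 0 := fun h0 => by
    have h1 := ConcreteCategory.congr_hom (X.presheaf.germ_stalkSpecializes hηV (genericPoint_specializes η)) a
    rw [CommRingCat.comp_apply, h0, map_zero] at h1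
    have h2 := (genLocus_inf_eq_basicOpen σ ht ha).le ⟨hηg, hηV'⟩
    exact ((X.mem_basicOpen a _ hηV').1 h2).ne_zero h1.symm
  have hnf : IsLocalRing.maximalIdeal R ≠ ⊥ := fun hbot => by
    have hF : IsField R := IsLocalRing.isField_iff_maximalIdeal_eq.2 hbot
    letI := hF.toField
    have h2 := (genLocus_inf_eq_basicOpen σ ht ha).ge ((X.mem_basicOpen a η hηV).2 (Ne.isUnit ha0))
    have h3 : η ∈ Wᶜ := hgl ▸ h2.1
    exact h3 hη.mem
  haveI : IsDiscreteValuationRing R := { not_a_field' := hnf }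
  letI : Algebra Γ(X, Vη.1) R := TopCat.Presheaf.algebra_section_stalk X.presheaf ⟨η, hηV⟩
  haveI := Vη.2.isLocalization_stalk ⟨η, hηV⟩
  have hprime : 𝓘.ideal Vη = (Vη.2.primeIdealOf ⟨η, hηV⟩).asIdeal := by
    refine le_antisymm ((mem_support_iff_le Vη η hηV).1 (by
      rw [← SetLike.mem_coe, hsupp]; exact hη.mem)) fun r hr => ?_
    rw [hI𝓘, Scheme.IdealSheafData.vanishingIdeal_ideal, PrimeSpectrum.mem_vanishingIdeal]
    intro p hp
    have hsp : Vη.2.fromSpec (Vη.2.primeIdealOf ⟨η, hηV⟩) ⤳ Vη.2.fromSpec p := by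
      rw [Vη.2.fromSpec_primeIdealOf]
      exact hη.specializes hp
    exact (PrimeSpectrum.le_iff_specializes _ _).2
      (Vη.2.fromSpec.isOpenEmbedding.isInducing.specializes_iff.1 hsp) hr
  let π : R := X.presheaf.germ V η hηV a
  have hπ : Irreducible π := by
    refine (IsDiscreteValuationRing.irreducible_iff_uniformizer π).2 ?_
    rw [← IsLocalization.AtPrime.map_eq_maximalIdeal (Vη.2.primeIdealOf ⟨η, hηV⟩).asIdeal R, ← hprime, hspan,
      Ideal.map_span, Set.image_singleton]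
    rfl
  let ι : R →+* X.functionField := algebraMap R X.functionField
  have hι : Function.Injective ι := IsFractionRing.injective R X.functionField
  have hpow : ∀ q : X.functionField, q ≠ 0 → ∃ (i j : ℕ) (u u' : Rˣ), q * ι (↑u' * π ^ j) = ι (↑u * π ^ i) := by
    intro q hq
    obtain ⟨r, s, hs, rfl⟩ := IsFractionRing.div_surjective R q
    have hr : r ≠ 0 := fun h => hq (by rw [h, map_zero, zero_div])
    have hs0 : s ≠ 0 := nonZeroDivisors.ne_zero hs
    obtain ⟨i, u, hru⟩ := IsDiscreteValuationRing.eq_unit_mul_pow_irreducible hr hπ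
    obtain ⟨j, u', hsu⟩ := IsDiscreteValuationRing.eq_unit_mul_pow_irreducible hs0 hπ
    refine ⟨i, j, u, u', ?_⟩
    rw [← hru, ← hsu, div_mul_cancel₀ _ ((map_ne_zero_iff ι hι).2 hs0)]
  have hπ0 : ι π ≠ 0 := (map_ne_zero_iff ι hι).2 hπ.ne_zero
  have hord : ∀ q : X.functionField, q ≠ 0 → ∃ (n : ℤ) (u : Rˣ), q = ι u * ι π ^ n := by
    intro q hq
    obtain ⟨i, j, u, u', h⟩ := hpow q hq
    refine ⟨(i : ℤ) - j, u * u'⁻¹, ?_⟩
    rw [map_mul, map_mul, map_pow, map_pow] at h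
    rw [Units.val_mul, map_mul, zpow_sub₀ hπ0, zpow_natCast, zpow_natCast, map_units_inv]
    have hu' : ι u' ≠ 0 := (u'.isUnit.map ι).ne_zero
    field_simp
    linear_combination h
  refine ⟨L, hL, σ, hgl, fun e U hdisj hUne he => ?_⟩
  have hUle : U ≤ CohB1.genLocus L σ := fun y hy => by
    rw [← SetLike.mem_coe, hgl]
    exact fun hyW => Set.disjoint_left.1 hdisj hy hyW
  have hηU : genericPoint X ∈ U := AVLib.Deg.mem_of_open hUne.some_mem
  have hσr : HasRatio (cls hL) U η (ι π) := by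
    refine ⟨L, hL, V, L.presheaf.map (homOfLE hUle).op s, t, X.presheaf.map (homOfLE inf_le_right).op a, rfl, hηV,
      hs.res hUle, ht, ?_, ⟨hηU, hηV'⟩, ?_⟩
    · rw [← Scheme.Modules.map_smul, ha]
      simp only [s, resT, res_res]
      exact (res_res _ _ _).symm
    · rw [TopCat.Presheaf.germ_res_apply]
      exact (ConcreteCategory.congr_hom (X.presheaf.germ_stalkSpecializes hηV (genericPoint_specializes η)) a).symm
  obtain ⟨q, hq⟩ := HasRatio.exists_of_pull η hUne he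
  obtain ⟨n, u, hqu⟩ := hord q hq.ne_zero
  refine ⟨-n, ?_⟩
  have fin : ∀ (e' : Pic X) (q' : X.functionField) (m : ℕ) (u₀ : Rˣ), HasRatio e' U η q' →
      q' = ι u₀ * ι π ^ (-(m : ℤ)) → ∃ U' : X.Opens, U ≤ U' ∧ η ∈ U' ∧ pull U'.ι (e' * cls hL ^ m) = 1 := by
    intro e' q' m u₀ h1 h2
    refine (h1.mul (hσr.pow m)).extend ⟨↑u₀, Units.isUnit _, ?_⟩
    rw [h2, zpow_neg, zpow_natCast]
    show ι _ = _
    field_simp
  rcases Int.eq_nat_or_neg n with ⟨m, hm | hm⟩
  · obtain ⟨U', h1, h2, h3⟩ := fin e⁻¹ q⁻¹ m u⁻¹ hq.inv (by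
      rw [hqu, hm, mul_inv, map_units_inv, zpow_neg])
    refine ⟨U', h1, h2, ?_⟩
    rw [hm, zpow_neg, zpow_natCast, ← inv_inv e, ← mul_inv, map_inv, h3, inv_one]
  · obtain ⟨U', h1, h2, h3⟩ := fin e q m u hq (by rw [hqu, hm])
    refine ⟨U', h1, h2, ?_⟩
    rw [hm, neg_neg, zpow_natCast]
    exact h3

end Groth.Agent.PicAVLib
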