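import Groth.Agent.AVLib.Points
import Groth.Agent.SchDesc.QAffAlg

/-!
# Global functions on affine schemes over a field
-/

set_option autoImplicit false
set_option backward.isDefEq.respectTransparency false
set_option linter.style.haveILetI false
set_option synthInstance.maxHeartbeats 400000

universe u

open CategoryTheory CategoryTheory.Limits MonoidalCategory CartesianMonoidalCategory AlgebraicGeometry
open scoped TensorProduct

noncomputable section

namespace Groth.Agent.PicAVLib

open GrpSchLib (spO spMap)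

variable {K : Type u} [Field K]

/-- The algebra of global functions. -/
abbrev Gam (X : Over (Spec (CommRingCat.of K))) : Type u := Γ(X.left, ⊤)

instance algebraGam (X : Over (Spec (CommRingCat.of K))) : Algebra K (Gam X) :=
  ((Scheme.ΓSpecIso (CommRingCat.of K)).inv ≫ X.hom.appTop).hom.toAlgebra

/-- Inverse image of functions. -/
def gamMap {X Y : Over (Spec (CommRingCat.of K))} (f : X ⟶ Y) : Gam Y →ₐ[K] Gam X where
  toRingHom := f.left.appTop.hom
  commutes' := fun c => by
    show (Y.hom.appTop ≫ f.left.appTop) ((Scheme.ΓSpecIso (CommRingCat.of K)).inv c) = X.hom.appTop _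
    rw [← Scheme.Hom.comp_appTop, Over.w f]
    rfl

theorem gamMap_apply {X Y : Over (Spec (CommRingCat.of K))} (f : X ⟶ Y) (c : Gam Y) :
    gamMap f c = f.left.appTop c := rfl

theorem gamMap_comp {X Y Z : Over (Spec (CommRingCat.of K))} (f : X ⟶ Y) (g : Y ⟶ Z) (c : Gam Z) :
    gamMap (f ≫ g) c = gamMap f (gamMap g c) := by
  show (f ≫ g).left.appTop c = f.left.appTop (g.left.appTop c)
  rw [Over.comp_left, Scheme.Hom.comp_appTop, ConcreteCategory.comp_apply]

theorem gamMap_id {X : Over (Spec (CommRingCat.of K))} (c : Gam X) : gamMap (𝟙 X) c = c := rfl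

/-- Functions on a product. -/
def gamProd (X Y : Over (Spec (CommRingCat.of K))) : Gam X ⊗[K] Gam Y →ₐ[K] Gam (X ⊗ Y) :=
  Algebra.TensorProduct.lift (gamMap (fst X Y)) (gamMap (snd X Y)) fun _ _ => Commute.all _ _

theorem gamProd_tmul {X Y : Over (Spec (CommRingCat.of K))} (a : Gam X) (b : Gam Y) :
    gamProd X Y (a ⊗ₜ b) = gamMap (fst X Y) a * gamMap (snd X Y) b :=
  Algebra.TensorProduct.lift_tmul _ _ _ a b

theorem gamMap_lift {U X Y : Over (Spec (CommRingCat.of K))} (f : U ⟶ X) (g : U ⟶ Y) (a : Gam X) (b : Gam Y) :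
    gamMap (lift f g) (gamProd X Y (a ⊗ₜ b)) = gamMap f a * gamMap g b := by
  rw [gamProd_tmul, map_mul, ← gamMap_comp, ← gamMap_comp, lift_fst, lift_snd]

instance isAffine_tensor (X Y : Over (Spec (CommRingCat.of K))) [IsAffine X.left] [IsAffine Y.left] :
    IsAffine (X ⊗ Y).left := inferInstanceAs (IsAffine (pullback X.hom Y.hom))

theorem bijective_gamProd (X Y : Over (Spec (CommRingCat.of K))) [IsAffine X.left] [IsAffine Y.left] :
    Function.Bijective (gamProd X Y) := by
  haveI : CompactSpace X.left := inferInstance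
  haveI : QuasiSeparatedSpace X.left := inferInstance
  haveI : Flat Y.hom := inferInstance
  have hH : IsPushout X.hom.appTop Y.hom.appTop (fst X Y).left.appTop (snd X Y).left.appTop :=
    SchDesc.isPushout_appTop (IsPullback.of_hasPullback X.hom Y.hom)
  have hH' : IsPushout (CommRingCat.ofHom (algebraMap K (Gam X))) (CommRingCat.ofHom (algebraMap K (Gam Y)))
      (CommRingCat.ofHom (fst X Y).left.appTop.hom) (CommRingCat.ofHom (snd X Y).left.appTop.hom) :=
    hH.of_iso (Scheme.ΓSpecIso (CommRingCat.of K)) (Iso.refl _) (Iso.refl _) (Iso.refl _)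
      (by simp [RingHom.algebraMap_toAlgebra]) (by simp [RingHom.algebraMap_toAlgebra])
      (by simp) (by simp)
  obtain ⟨e, he1, he2⟩ := SchDesc.exists_iso_tensor hH'
  have h : ∀ z, gamProd X Y z = e z := fun z => by
    induction z with
    | zero => rw [map_zero]; exact (map_zero e).symm
    | add a b ha hb => rw [map_add, ha, hb]; exact (map_add e a b).symm
    | tmul a b =>
      rw [gamProd_tmul, show a ⊗ₜ[K] b = (a ⊗ₜ[K] 1) * ((1 : Gam X) ⊗ₜ[K] b) by
        rw [Algebra.TensorProduct.tmul_mul_tmul, _root_.mul_one, _root_.one_mul], map_mul, he1, he2]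
      rfl
  exact ⟨fun a b hab => e.injective ((h a).symm.trans (hab.trans (h b))),
    fun z => ⟨e.symm z, (h _).trans (e.apply_symm_apply z)⟩⟩

/-- An affine scheme is the spectrum of its functions. -/
def gamIso (X : Over (Spec (CommRingCat.of K))) [IsAffine X.left] : spO K (Gam X) ≅ X :=
  Over.isoMk X.left.isoSpec.symm (by
    show X.left.isoSpec.inv ≫ X.hom = Spec.map (CommRingCat.ofHom (algebraMap K (Gam X)))
    rw [Iso.inv_comp_eq]
    show X.hom = X.left.toSpecΓ ≫ Spec.map (((Scheme.ΓSpecIso (CommRingCat.of K)).inv ≫ X.hom.appTop))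
    rw [Spec.map_comp, ← Scheme.toSpecΓ_naturality_assoc, toSpecΓ_SpecMap_ΓSpecIso_inv, Category.comp_id])

/-- The functions on a point given by an algebra map. -/
theorem gamMap_spMap {X : Over (Spec (CommRingCat.of K))} [IsAffine X.left] {S : Type u} [CommRing S] [Algebra K S]
    (f : Gam X →ₐ[K] S) (c : Gam X) :
    gamMap (spMap f ≫ (gamIso X).hom) c = (Scheme.ΓSpecIso (CommRingCat.of S)).inv (f c) := by
  show ((Spec.map (CommRingCat.ofHom f.toRingHom) ≫ X.left.isoSpec.inv).appTop) c = _
  rw [Scheme.Hom.comp_appTop, ConcreteCategory.comp_apply]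
  have h : X.left.isoSpec.inv.appTop c = (Scheme.ΓSpecIso (CommRingCat.of (Gam X))).inv c := by
    have h1 : X.left.isoSpec.inv.appTop = (Scheme.ΓSpecIso Γ(X.left, ⊤)).inv := by
      rw [← cancel_mono X.left.isoSpec.hom.appTop, ← Scheme.Hom.comp_appTop, Iso.hom_inv_id]
      show _ = _ ≫ X.left.toSpecΓ.appTop
      rw [Scheme.toSpecΓ_appTop, Iso.inv_hom_id]
      rfl
    exact congrArg (fun φ => φ c) h1
  erw [h]
  exact (congr($(Scheme.ΓSpecIso_inv_naturality (CommRingCat.ofHom f.toRingHom)).hom c)).symm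

theorem finrank_gam (X : Over (Spec (CommRingCat.of K))) [IsFinite X.hom] {n : ℕ} (h : ∀ x, X.hom.finrank x = n) :
    Module.Finite K (Gam X) ∧ Module.finrank K (Gam X) = n := by
  haveI : IsAffine X.left := isAffine_of_isAffineHom X.hom
  let e := gamIso X
  have hw : e.hom.left ≫ X.hom = Spec.map (CommRingCat.ofHom (algebraMap K (Gam X))) := Over.w e.hom
  haveI : IsIso e.hom.left := inferInstanceAs (IsIso ((Over.forget _).map e.hom))
  haveI hfin : IsFinite (Spec.map (CommRingCat.ofHom (algebraMap K (Gam X)))) := by rw [← hw]; infer_instance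
  haveI hF : Module.Finite K (Gam X) := RingHom.finite_algebraMap.1 ((IsFinite.SpecMap_iff _).1 hfin)
  refine ⟨hF, ?_⟩
  have h1 := h (⊥ : PrimeSpectrum K)
  rw [← Scheme.Hom.finrank_comp_left_of_isIso e.hom.left, hw, Scheme.Hom.finrank_SpecMap_algebraMap,
    Module.rankAtStalk_eq_finrank_of_free] at h1
  exact h1

end Groth.Agent.PicAVLib
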