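import Groth.Agent.AVLib.Deg.Div
import Groth.Agent.AVExtLib.Extend
import Groth.Agent.AmpleLib.Extend
import Groth.Agent.AmpleLib.RelLocal
import Groth.Agent.ParaFLib.GenExt
import Groth.Agent.AmpleEmb.ComposeRel
import Groth.Agent.AbDualLib.Prim
import Mathlib.RingTheory.Norm.Transitivity
import Mathlib.RingTheory.Valuation.LocalSubring

/-!
# Classes trivial upstairs have trivial powers downstairs (norm of trivialisations)
-/

set_option autoImplicit false
set_option backward.isDefEq.respectTransparency false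
set_option linter.style.haveILetI false
set_option maxHeartbeats 1000000

universe u

open CategoryTheory CategoryTheory.Limits AlgebraicGeometry TopologicalSpace Opposite
open Groth.Agent.PicLib Groth.Agent.AmpleLib Groth.Agent.ParaFLib Groth.Agent.PullbackMod

noncomputable section

namespace Groth.Agent.PicAVLib

theorem gen_map_iso {X : Scheme.{u}} {P Q : X.Modules} (e : P ≅ Q) {W : X.Opens} {s : Γ(P, W)} (hs : Gen W s) :
    Gen W (e.hom.app W s) := fun O hO => by
  have hb : Function.Bijective (e.hom.app O) :=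
    ConcreteCategory.bijective_of_isIso (e.hom.app O)
  convert! hb.comp (hs O hO) using 1
  funext r
  simp only [Function.comp_apply, Scheme.Modules.Hom.app_smul]
  exact congrArg (r • ·) (ConcreteCategory.congr_hom (e.hom.mapPresheaf.naturality (homOfLE hO).op) s).symm

/-- A class trivial on an open has a basis there. -/
theorem exists_gen_of_pull_ι {X : Scheme.{u}} {M : X.Modules} (hM : PicF.IsInvertible M) (W : X.Opens)
    (h : pull W.ι (cls hM) = 1) : ∃ τ : Γ(M, W), Gen W τ := by
  rw [pull_cls] at h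
  obtain ⟨τ, hτ⟩ := (AbDualLib.eq_one_iff_triv _).1 h
  have h1 := gen_map_iso ((Scheme.Modules.restrictFunctorIsoPullback W.ι).app M).symm hτ
  let σ : Γ(M, W.ι ''ᵁ ⊤) :=
    ((Scheme.Modules.restrictFunctorIsoPullback W.ι).app M).symm.hom.app ⊤ τ
  have h2 : Gen (W.ι ''ᵁ ⊤) σ := (AmpleLib.gen_restrict_iff W.ι M ⊤ σ).1 h1
  exact ⟨_, h2.res (W.ι_image_top.ge)⟩

/-- A basis on an open makes the class trivial there. -/
theorem pull_ι_eq_one_of_gen {X : Scheme.{u}} {M : X.Modules} (hM : PicF.IsInvertible M) (W : X.Opens)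
    {τ : Γ(M, W)} (h : Gen W τ) : pull W.ι (cls hM) = 1 := by
  rw [pull_cls]
  exact (AbDualLib.eq_one_iff_triv _).2 ⟨_, CubeLib.gen_pullMap W.ι hM h (fun z _ => z.2)⟩

section Norm

variable {Z A : Scheme.{u}} [IsIntegral Z] [IsIntegral A] (g : Z ⟶ A)

theorem map_genericPoint_of_surjective [Surjective g] : g (genericPoint Z) = genericPoint A := by
  have h := (genericPoint_spec Z).image g.continuous
  rw [Set.image_univ, g.surjective.range_eq, closure_univ] at h
  exact h.eq (genericPoint_spec A)

variable [Surjective g]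

/-- The map from a local ring to the function field upstairs. -/
def ψ (a : A) : A.presheaf.stalk a →+* Z.functionField :=
  (A.presheaf.stalkSpecializes (show g (genericPoint Z) ⤳ a by
    rw [map_genericPoint_of_surjective]; exact genericPoint_specializes a) ≫ g.stalkMap (genericPoint Z)).hom

/-- The map of function fields. -/
def ffm : A.functionField →+* Z.functionField := ψ g (genericPoint A)

theorem ffm_algebraMap (a : A) (x : A.presheaf.stalk a) :
    ffm g (algebraMap (A.presheaf.stalk a) A.functionField x) = ψ g a x := by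
  show (g.stalkMap (genericPoint Z)).hom ((A.presheaf.stalkSpecializes _).hom ((A.presheaf.stalkSpecializes _).hom x)) =
    (g.stalkMap (genericPoint Z)).hom ((A.presheaf.stalkSpecializes _).hom x)
  exact congrArg (g.stalkMap (genericPoint Z)).hom
    (ConcreteCategory.congr_hom (A.presheaf.stalkSpecializes_comp _ _) x)

theorem ffm_germ {W : A.Opens} (hW : genericPoint A ∈ W) (x : Γ(A, W)) :
    ffm g (A.presheaf.germ W _ hW x) =
      Z.presheaf.germ (g ⁻¹ᵁ W) (genericPoint Z) (show g (genericPoint Z) ∈ W by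
        rw [map_genericPoint_of_surjective]; exact hW) (g.app W x) := by
  show (g.stalkMap (genericPoint Z)).hom ((A.presheaf.stalkSpecializes _).hom _) = _
  refine (congrArg (g.stalkMap (genericPoint Z)).hom
    (ConcreteCategory.congr_hom (A.presheaf.germ_stalkSpecializes hW _) x)).trans ?_
  exact Scheme.Hom.germ_stalkMap_apply g W _ _ x

/-- Functions regular over a point are integral over its local ring. -/
theorem isIntegralElem_germ [IsProper g] (a : A) (W : A.Opens) (ha : a ∈ W) (hη : genericPoint Z ∈ g ⁻¹ᵁ W)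
    (v : Γ(Z, g ⁻¹ᵁ W)) : (ψ g a).IsIntegralElem (Z.presheaf.germ (g ⁻¹ᵁ W) _ hη v) := by
  let F := Z.functionField
  let x : F := Z.presheaf.germ (g ⁻¹ᵁ W) _ hη v
  let R : Subring F := (ψ g a).range
  suffices hx : x ∈ (⨅ V : {V : ValuationSubring F // (R : Set F) ⊆ V.toSubring}, V.1.toSubring) by
    rw [iInf_valuationSubring_superset, Subring.closure_eq] at hx
    obtain ⟨p, hp, hp0⟩ := (hx : IsIntegral R x)
    have hsurj : Function.Surjective (ψ g a).rangeRestrict := (ψ g a).rangeRestrict_surjective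
    obtain ⟨q, hq, hqd, hqm⟩ := Polynomial.lifts_and_degree_eq_and_monic
      (f := (ψ g a).rangeRestrict) ((Polynomial.map_surjective _ hsurj p).imp fun _ h => h) hp
    refine ⟨q, hqm, ?_⟩
    rw [← hp0, ← hq, Polynomial.eval₂_map]
    rfl
  rw [Subring.mem_iInf]
  rintro ⟨V, hV⟩
  let φ : A.presheaf.stalk a ⟶ CommRingCat.of V :=
    CommRingCat.ofHom ((ψ g a).codRestrict V.toSubring fun y => hV ⟨y, rfl⟩)
  let j : CommRingCat.of V ⟶ CommRingCat.of F := CommRingCat.ofHom (algebraMap V F)
  have hφ : φ ≫ j = A.presheaf.stalkSpecializes (show g (genericPoint Z) ⤳ a by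
      rw [map_genericPoint_of_surjective]; exact genericPoint_specializes a) ≫ g.stalkMap (genericPoint Z) :=
    CommRingCat.hom_ext (RingHom.ext fun y => rfl)
  let i₁ : Spec (CommRingCat.of F) ⟶ Z := Z.fromSpecStalk (genericPoint Z)
  let i₂ : Spec (CommRingCat.of V) ⟶ A := Spec.map φ ≫ A.fromSpecStalk a
  have hsq : CommSq i₁ (Spec.map j) g i₂ := ⟨by
    rw [← Category.assoc, ← Spec.map_comp, hφ, Spec.map_comp, Category.assoc,
      Scheme.SpecMap_stalkSpecializes_fromSpecStalk]
    exact (Scheme.SpecMap_stalkMap_fromSpecStalk g).symm⟩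
  have hval : ValuativeCriterion.Existence g := by
    have h : IsProper g := inferInstance
    rw [IsProper.eq_valuativeCriterion] at h
    exact ValuativeCriterion.existence h.1.1.1
  haveI := hval { R := V, K := F, i₁ := i₁, i₂ := i₂, commSq := hsq }
  let l : Spec (CommRingCat.of V) ⟶ Z := hsq.lift
  have hl₁ : Spec.map j ≫ l = i₁ := hsq.fac_left
  have hl₂ : l ≫ g = i₂ := hsq.fac_right
  let z : Z := l (IsLocalRing.closedPoint V)
  have hz : z ∈ g ⁻¹ᵁ W := by
    show g (l (IsLocalRing.closedPoint V)) ∈ W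
    rw [← Scheme.Hom.comp_apply, hl₂]
    refine Specializes.mem_open ?_ W.2 ha
    show A.fromSpecStalk a (Spec.map φ (IsLocalRing.closedPoint V)) ⤳ a
    refine Specializes.trans (((IsLocalRing.specializes_closedPoint _).map (A.fromSpecStalk a).continuous)) ?_
    rw [Scheme.fromSpecStalk_closedPoint]
  obtain ⟨θ, hθ⟩ := AVExtLib.exists_specMap_fromSpecStalk l (e := z) (specializes_refl _)
  have hθj : θ ≫ j = Z.presheaf.stalkSpecializes (genericPoint_specializes z) := by
    apply Spec.map_injective
    rw [← cancel_mono (Z.fromSpecStalk z), Spec.map_comp, Category.assoc, hθ, hl₁,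
      Scheme.SpecMap_stalkSpecializes_fromSpecStalk]
  have hxv : x = j (θ (Z.presheaf.germ (g ⁻¹ᵁ W) z hz v)) := by
    rw [← CommRingCat.comp_apply, hθj, ← CommRingCat.comp_apply, TopCat.Presheaf.germ_stalkSpecializes]
  rw [hxv]
  exact (θ (Z.presheaf.germ (g ⁻¹ᵁ W) z hz v)).2

/-- Some power of a class trivial upstairs over an open is trivial on it, uniformly. -/
theorem exists_pow_pull_ι_eq_one [IsProper g] (hfin : (ffm g).Finite)
    (hnor : ∀ a : A, IsIntegrallyClosed (A.presheaf.stalk a)) :
    ∃ d : ℕ, 0 < d ∧ ∀ (c : Pic A) (U : A.Opens), pull (g ⁻¹ᵁ U).ι (pull g c) = 1 → pull U.ι (c ^ d) = 1 := by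
  letI algF : Algebra A.functionField Z.functionField := (ffm g).toAlgebra
  haveI : Module.Finite A.functionField Z.functionField := hfin
  let d := Module.finrank A.functionField Z.functionField
  refine ⟨d, Module.finrank_pos, fun c U hc => ?_⟩
  obtain ⟨M, hM, rfl⟩ := exists_cls c
  rw [pull_cls] at hc
  obtain ⟨τ, hτ⟩ := exists_gen_of_pull_ι _ (g ⁻¹ᵁ U) hc
  rw [← cls_tensorPow hM d]
  let ι := {a : A // a ∈ U}
  choose W₀ s₀ hW₀ hs₀ using fun a : A => exists_gen_nhd hM a
  let W : ι → A.Opens := fun a => W₀ a.1 ⊓ U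
  let s : ∀ a, Γ(M, W a) := fun a => M.presheaf.map (homOfLE inf_le_left).op (s₀ a.1)
  have hs : ∀ a, Gen (W a) (s a) := fun a => (hs₀ a.1).res inf_le_left
  have hWη : ∀ a, genericPoint A ∈ W a := fun a => AVLib.Deg.mem_of_open (p := a.1) ⟨hW₀ a.1, a.2⟩
  have hgη : ∀ a, genericPoint Z ∈ g ⁻¹ᵁ W a := fun a => by
    show g (genericPoint Z) ∈ W a
    rw [map_genericPoint_of_surjective]
    exact hWη a
  let τW : ∀ a, Γ((Scheme.Modules.pullback g).obj M, g ⁻¹ᵁ W a) := fun a =>
    ((Scheme.Modules.pullback g).obj M).presheaf.map (homOfLE (g.preimage_mono inf_le_right)).op τ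
  have hτW : ∀ a, Gen (g ⁻¹ᵁ W a) (τW a) := fun a => hτ.res _
  have hps : ∀ a, Gen (g ⁻¹ᵁ W a) (pullMap g M (le_refl _) (s a)) := fun a =>
    CubeLib.gen_pullMap g hM (hs a) le_rfl
  choose v hv using fun a => (hτW a _ le_rfl).2 (pullMap g M (le_refl _) (s a))
  simp only [res_self] at hv
  choose w hw using fun a => (hps a _ le_rfl).2 (τW a)
  simp only [res_self] at hw
  have hvw : ∀ a, w a * v a = 1 := fun a => by
    apply (hτW a _ le_rfl).1
    simp only [res_self, one_smul, mul_smul, hv, hw]
  let nv : ι → A.functionField := fun a => Algebra.norm A.functionField (Z.presheaf.germ _ _ (hgη a) (v a))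
  let nw : ι → A.functionField := fun a => Algebra.norm A.functionField (Z.presheaf.germ _ _ (hgη a) (w a))
  have hreg : ∀ (a : ι) (r : Γ(Z, g ⁻¹ᵁ W a)), ∀ q ∈ W a,
      AVLib.Deg.Reg q (Algebra.norm A.functionField (Z.presheaf.germ _ _ (hgη a) r)) := fun a r q hq => by
    letI : Algebra (A.presheaf.stalk q) Z.functionField := (ψ g q).toAlgebra
    haveI : IsScalarTower (A.presheaf.stalk q) A.functionField Z.functionField :=
      IsScalarTower.of_algebraMap_eq fun x => (ffm_algebraMap g q x).symm
    haveI := hnor q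
    exact IsIntegrallyClosed.isIntegral_iff.1
      (Algebra.isIntegral_norm A.functionField (isIntegralElem_germ g q (W a) hq (hgη a) r))
  choose e he using fun a => AVLib.Deg.exists_of_reg (hWη a) (hreg a (v a))
  choose e' he' using fun a => AVLib.Deg.exists_of_reg (hWη a) (hreg a (w a))
  have hee : ∀ a, e' a * e a = 1 := fun a => by
    haveI : Nonempty ↥(W a) := ⟨⟨_, hWη a⟩⟩
    apply germ_injective_of_isIntegral A (genericPoint A) (hWη a)
    rw [map_mul, he, he', map_one, ← map_mul, ← map_mul, hvw, map_one, map_one]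
  let t : ∀ a, Γ(CohB1.tensorPow M d, W a) := fun a => e' a • powLoc (s a) d
  have ht : ∀ a, Gen (W a) (t a) := fun a O hO => by
    have hu : IsUnit (A.presheaf.map (homOfLE hO).op (e' a)) :=
      (IsUnit.of_mul_eq_one _ (hee a)).map _
    have hb := gen_powLoc (hs a) d O hO
    have hbij : Function.Bijective fun r : Γ(A, O) => r * A.presheaf.map (homOfLE hO).op (e' a) :=
      ⟨fun x y h => hu.mul_right_cancel h, fun y => ⟨y * ↑hu.unit⁻¹, by simp [_root_.mul_assoc]⟩⟩
    convert! hb.comp hbij using 1
    funext r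
    simp only [Function.comp_apply, t, Scheme.Modules.map_smul, smul_smul]
  have hcompat : ∀ a b, (CohB1.tensorPow M d).presheaf.map (homOfLE (inf_le_left : W a ⊓ W b ≤ W a)).op (t a) =
      (CohB1.tensorPow M d).presheaf.map (homOfLE (inf_le_right : W a ⊓ W b ≤ W b)).op (t b) := fun a b => by
    let O := W a ⊓ W b
    have hOη : genericPoint A ∈ O := ⟨hWη a, hWη b⟩
    have hgO : genericPoint Z ∈ g ⁻¹ᵁ O := ⟨hgη a, hgη b⟩
    obtain ⟨r, hr⟩ := ((hs b) O inf_le_right).2 (M.presheaf.map (homOfLE inf_le_left).op (s a))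
    have hgen : Gen (g ⁻¹ᵁ O) (((Scheme.Modules.pullback g).obj M).presheaf.map
        (homOfLE (g.preimage_mono (inf_le_right.trans (inf_le_right : W b ≤ U)))).op τ) := hτ.res _
    have hvab : Z.presheaf.map (homOfLE (g.preimage_mono (inf_le_left : O ≤ W a))).op (v a) =
        g.app O r * Z.presheaf.map (homOfLE (g.preimage_mono (inf_le_right : O ≤ W b))).op (v b) := by
      refine (hgen _ le_rfl).1 ?_
      simp only [res_self, mul_smul]
      have hpr : ∀ (c : ι) (h : O ≤ W c), Z.presheaf.map (homOfLE (g.preimage_mono h)).op (v c) •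
          ((Scheme.Modules.pullback g).obj M).presheaf.map
            (homOfLE (g.preimage_mono (inf_le_right.trans (inf_le_right : W b ≤ U)))).op τ =
          pullMap g M le_rfl (M.presheaf.map (homOfLE h).op (s c)) := fun c h => by
        rw [← PullbackMod.pullMap_res g M le_rfl h (g.preimage_mono h) le_rfl (s c), ← hv c, Scheme.Modules.map_smul]
        exact congrArg _ (res_res _ _ _).symm
      rw [hpr a inf_le_left, hpr b inf_le_right, ← hr, pullMap_smul]
      rw [← Scheme.Hom.app_eq_appLE]
    have hn : nv a = A.presheaf.germ O _ hOη r ^ d * nv b := by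
      have h1 := congrArg (Z.presheaf.germ (g ⁻¹ᵁ O) _ hgO) hvab
      rw [map_mul, TopCat.Presheaf.germ_res_apply, TopCat.Presheaf.germ_res_apply, ← ffm_germ g hOη] at h1
      show Algebra.norm _ _ = _
      rw [h1, map_mul]
      congr 1
      exact Algebra.norm_algebraMap _
    have he'O : A.presheaf.map (homOfLE (inf_le_left : O ≤ W a)).op (e' a) * r ^ d =
        A.presheaf.map (homOfLE (inf_le_right : O ≤ W b)).op (e' b) := by
      haveI : Nonempty ↥O := ⟨⟨_, hOη⟩⟩
      apply germ_injective_of_isIntegral A (genericPoint A) hOη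
      rw [map_mul, map_pow, TopCat.Presheaf.germ_res_apply, TopCat.Presheaf.germ_res_apply, he', he']
      have h1 : ∀ c, Algebra.norm A.functionField (Z.presheaf.germ _ _ (hgη c) (w c)) * nv c = 1 := fun c => by
        show _ * Algebra.norm _ _ = 1
        rw [← map_mul, ← map_mul, hvw, map_one, map_one]
      calc Algebra.norm A.functionField (Z.presheaf.germ _ _ (hgη a) (w a)) * A.presheaf.germ O _ hOη r ^ d
          = Algebra.norm A.functionField (Z.presheaf.germ _ _ (hgη a) (w a)) *
              (A.presheaf.germ O _ hOη r ^ d * nv b) *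
              Algebra.norm A.functionField (Z.presheaf.germ _ _ (hgη b) (w b)) := by
            rw [_root_.mul_assoc, _root_.mul_assoc, _root_.mul_comm (nv b), h1 b, _root_.mul_one]
        _ = _ := by rw [← hn, h1 a, _root_.one_mul]
    simp only [t, Scheme.Modules.map_smul, powLoc_res]
    rw [← hr, powLoc_smul, smul_smul, he'O]
  let F : TopCat.Sheaf Ab.{u} A.carrier := ⟨(CohB1.tensorPow M d).presheaf, (CohB1.tensorPow M d).isSheaf⟩
  have hcov : U ≤ iSup W := fun x hx => Opens.mem_iSup.2 ⟨⟨x, hx⟩, hW₀ x, hx⟩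
  obtain ⟨T, hT, -⟩ := F.existsUnique_gluing' W U (fun a => homOfLE inf_le_right) hcov t hcompat
  refine pull_ι_eq_one_of_gen _ U (τ := T) (gen_of_cover W (fun a => inf_le_right) hcov fun a => ?_)
  exact (hT a : _) ▸ ht a

end Norm

end Groth.Agent.PicAVLib
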