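import Groth.Agent.PoincareLib.PicKer
import Groth.Agent.CubeLib.Sec

/-!
# Equal ratios give isomorphic inverse images
-/

set_option autoImplicit false
set_option backward.isDefEq.respectTransparency false
set_option linter.style.haveILetI false
set_option maxHeartbeats 1000000

universe u

open CategoryTheory CategoryTheory.Limits AlgebraicGeometry TopologicalSpace
open Groth.Agent.InvDescLib Groth.Agent.ParaFLib Groth.Agent.PullbackMod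

noncomputable section

namespace Groth.Agent.PicAVLib

theorem coef_key {X X' : Scheme.{u}} (g : X' ⟶ X) {L : X.Modules} (hL : PicF.IsInvertible L)
    {σ : Γ((Scheme.Modules.pullback g).obj L, g ⁻¹ᵁ ⊤)} {W W' : X.Opens} {t : Γ(L, W)} (ht : Gen W t)
    {t' : Γ(L, W')} (ht' : Gen W' t') {r : Γ(X', g ⁻¹ᵁ W)} (hr : IsCoef g le_top t σ r) {r' : Γ(X', g ⁻¹ᵁ W')}
    (hr' : IsCoef g le_top t' σ r') :
    ∃ τ : Γ(X, W ⊓ W'),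
      L.presheaf.map (homOfLE (inf_le_left : W ⊓ W' ≤ W)).op t =
        τ • L.presheaf.map (homOfLE (inf_le_right : W ⊓ W' ≤ W')).op t' ∧
      X'.presheaf.map (homOfLE (g.preimage_mono (inf_le_left : W ⊓ W' ≤ W))).op r * g.app (W ⊓ W') τ =
        X'.presheaf.map (homOfLE (g.preimage_mono (inf_le_right : W ⊓ W' ≤ W'))).op r' := by
  have h1 : W ⊓ W' ≤ W := inf_le_left
  have h2 : W ⊓ W' ≤ W' := inf_le_right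
  let N := (Scheme.Modules.pullback g).obj L
  obtain ⟨τ, -, hτ⟩ := (ht.res h1).exists_unit (ht'.res h2)
  refine ⟨τ, hτ.symm, gen_inj ((AmpleEmb.gen_pullMap g hL ht').res (g.preimage_mono h2)) ?_⟩
  rw [mul_smul, pullMap_smul_res g h2 hτ, ← pullMap_res g L le_rfl h1 (g.preimage_mono h1) le_rfl t,
    ← N.map_smul, ← N.map_smul, hr, hr']
  exact (ParaFLib.res_res _ _ _).trans (ParaFLib.res_res _ _ _).symm

/-- Inverse images of two modules along two squares are isomorphic when the ratios of their frames agree. -/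
theorem nonempty_iso_of_ratio_pullback {X₁ X₁' X₂ X₂' Y Y' : Scheme.{u}} (g₁ : X₁' ⟶ X₁) (g₂ : X₂' ⟶ X₂)
    (g' : Y' ⟶ Y) [SchDesc.IsFpqc g']
    (h₁ : Y ⟶ X₁) (H₁ : Y' ⟶ X₁') (w₁ : H₁ ≫ g₁ = g' ≫ h₁)
    (h₂ : Y ⟶ X₂) (H₂ : Y' ⟶ X₂') (w₂ : H₂ ≫ g₂ = g' ≫ h₂)
    {L₁ : X₁.Modules} (hL₁ : PicF.IsInvertible L₁) {σ₁ : Γ((Scheme.Modules.pullback g₁).obj L₁, g₁ ⁻¹ᵁ ⊤)}
    (hσ₁ : Gen (g₁ ⁻¹ᵁ ⊤) σ₁) (v₁ : Γ(pullback g₁ g₁, ⊤))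
    (hv₁ : ∀ (W : X₁.Opens) (t : Γ(L₁, W)) (_ : Gen W t) (r : Γ(X₁', g₁ ⁻¹ᵁ W)) (_ : IsCoef g₁ le_top t σ₁ r)
      (T : Scheme.{u}) (a b : T ⟶ X₁') (ea : ∀ s, a s ∈ g₁ ⁻¹ᵁ W) (eb : ∀ s, b s ∈ g₁ ⁻¹ᵁ W) (w : a ≫ g₁ = b ≫ g₁),
      val2 g₁ v₁ a b w * ev a ea r = ev b eb r)
    {L₂ : X₂.Modules} (hL₂ : PicF.IsInvertible L₂) {σ₂ : Γ((Scheme.Modules.pullback g₂).obj L₂, g₂ ⁻¹ᵁ ⊤)}
    (hσ₂ : Gen (g₂ ⁻¹ᵁ ⊤) σ₂) (v₂ : Γ(pullback g₂ g₂, ⊤))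
    (hv₂ : ∀ (W : X₂.Opens) (t : Γ(L₂, W)) (_ : Gen W t) (r : Γ(X₂', g₂ ⁻¹ᵁ W)) (_ : IsCoef g₂ le_top t σ₂ r)
      (T : Scheme.{u}) (a b : T ⟶ X₂') (ea : ∀ s, a s ∈ g₂ ⁻¹ᵁ W) (eb : ∀ s, b s ∈ g₂ ⁻¹ᵁ W) (w : a ≫ g₂ = b ≫ g₂),
      val2 g₂ v₂ a b w * ev a ea r = ev b eb r)
    (hval : ∀ (T : Scheme.{u}) (a b : T ⟶ Y') (w : a ≫ g' = b ≫ g'),
      val2 g₁ v₁ (a ≫ H₁) (b ≫ H₁) (by rw [Category.assoc, w₁, reassoc_of% w, Category.assoc, w₁]) =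
        val2 g₂ v₂ (a ≫ H₂) (b ≫ H₂) (by rw [Category.assoc, w₂, reassoc_of% w, Category.assoc, w₂])) :
    Nonempty ((Scheme.Modules.pullback h₁).obj L₁ ≅ (Scheme.Modules.pullback h₂).obj L₂) := by
  choose W₁ t₁ hx₁ ht₁ using fun y : Y => exists_gen_nhd hL₁ (h₁ y)
  choose W₂ t₂ hx₂ ht₂ using fun y : Y => exists_gen_nhd hL₂ (h₂ y)
  choose r₁ hr₁ hu₁ using fun y => exists_coef g₁ hL₁ (le_top : W₁ y ≤ ⊤) (ht₁ y) hσ₁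
  choose r₂ hr₂ hu₂ using fun y => exists_coef g₂ hL₂ (le_top : W₂ y ≤ ⊤) (ht₂ y) hσ₂
  let U : Y → Y.Opens := fun y => h₁ ⁻¹ᵁ W₁ y ⊓ h₂ ⁻¹ᵁ W₂ y
  have e₁ : ∀ y, g' ⁻¹ᵁ U y ≤ H₁ ⁻¹ᵁ (g₁ ⁻¹ᵁ W₁ y) := fun y z hz => by
    show (H₁ ≫ g₁) z ∈ W₁ y
    rw [w₁]
    exact hz.1
  have e₂ : ∀ y, g' ⁻¹ᵁ U y ≤ H₂ ⁻¹ᵁ (g₂ ⁻¹ᵁ W₂ y) := fun y z hz => by
    show (H₂ ≫ g₂) z ∈ W₂ y
    rw [w₂]
    exact hz.2
  let ρ₁ : ∀ y, Γ(Y', g' ⁻¹ᵁ U y) := fun y => H₁.appLE _ _ (e₁ y) (r₁ y)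
  let ρ₂ : ∀ y, Γ(Y', g' ⁻¹ᵁ U y) := fun y => H₂.appLE _ _ (e₂ y) (r₂ y)
  have hρ₁ : ∀ y, IsUnit (ρ₁ y) := fun y => (hu₁ y).map _
  choose q hq using fun y => ((hρ₁ y).exists_right_inv)
  have hc : ∀ y, ∃ c : Γ(Y, U y), g'.app (U y) c = q y * ρ₂ y := fun y => by
    refine exists_fun g' (q y * ρ₂ y) fun T a b ea eb w => ?_
    have i1 := hv₁ (W₁ y) (t₁ y) (ht₁ y) (r₁ y) (hr₁ y) T (a ≫ H₁) (b ≫ H₁)
      (fun s => e₁ y (ea s)) (fun s => e₁ y (eb s)) (by rw [Category.assoc, w₁, reassoc_of% w, Category.assoc, w₁])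
    have i2 := hv₂ (W₂ y) (t₂ y) (ht₂ y) (r₂ y) (hr₂ y) T (a ≫ H₂) (b ≫ H₂)
      (fun s => e₂ y (ea s)) (fun s => e₂ y (eb s)) (by rw [Category.assoc, w₂, reassoc_of% w, Category.assoc, w₂])
    rw [hval T a b w] at i1
    rw [← ev_appLE a H₁ (e₁ y) ea, ← ev_appLE b H₁ (e₁ y) eb] at i1
    rw [← ev_appLE a H₂ (e₂ y) ea, ← ev_appLE b H₂ (e₂ y) eb] at i2
    change _ * ev a ea (ρ₁ y) = ev b eb (ρ₁ y) at i1
    change _ * ev a ea (ρ₂ y) = ev b eb (ρ₂ y) at i2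
    have ka : ev a ea (ρ₁ y) * ev a ea (q y) = 1 := by rw [← map_mul, hq, map_one]
    have kb : ev b eb (ρ₁ y) * ev b eb (q y) = 1 := by rw [← map_mul, hq, map_one]
    rw [map_mul, map_mul]
    linear_combination (-(ev a ea (q y) * ev b eb (q y) * ev a ea (ρ₂ y))) * i1
      + (ev a ea (q y) * ev b eb (q y) * ev a ea (ρ₁ y)) * i2
      - (ev a ea (q y) * ev a ea (ρ₂ y)) * kb + (ev b eb (q y) * ev b eb (ρ₂ y)) * ka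
  choose c hc using hc
  let t : ∀ y, Γ((Scheme.Modules.pullback h₁).obj L₁, U y) := fun y => pullMap h₁ L₁ inf_le_left (t₁ y)
  let t' : ∀ y, Γ((Scheme.Modules.pullback h₂).obj L₂, U y) := fun y => c y • pullMap h₂ L₂ inf_le_right (t₂ y)
  have hcu : ∀ y, IsUnit (c y) := fun y => by
    refine RingedSpace.isUnit_of_isUnit_germ _ _ (c y) fun z hz => ?_
    obtain ⟨z', rfl⟩ := g'.surjective z
    have h1 : z' ∈ Y'.basicOpen (g'.app (U y) (c y)) := by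
      rw [hc]
      exact (Y'.toRingedSpace.mem_basicOpen (q y * ρ₂ y) z' hz).2
        (((IsUnit.of_mul_eq_one_right _ (hq y)).mul ((hu₂ y).map _)).map _)
    rw [← Scheme.preimage_basicOpen] at h1
    exact (Y.toRingedSpace.mem_basicOpen (c y) (g' z') hz).1 h1
  have hτ₁ := fun i j => coef_key g₁ hL₁ (ht₁ i) (ht₁ j) (hr₁ i) (hr₁ j)
  have hτ₂ := fun i j => coef_key g₂ hL₂ (ht₂ i) (ht₂ j) (hr₂ i) (hr₂ j)
  choose τ₁ hτt₁ hτr₁ using hτ₁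
  choose τ₂ hτt₂ hτr₂ using hτ₂
  have le₁ : ∀ i j, U i ⊓ U j ≤ h₁ ⁻¹ᵁ (W₁ i ⊓ W₁ j) := fun i j z hz => ⟨hz.1.1, hz.2.1⟩
  have le₂ : ∀ i j, U i ⊓ U j ≤ h₂ ⁻¹ᵁ (W₂ i ⊓ W₂ j) := fun i j z hz => ⟨hz.1.2, hz.2.2⟩
  refine nonempty_iso_of_bases (U := U) (s := t) (t := t')
    (eq_top_iff.2 fun z _ => Opens.mem_iSup.2 ⟨z, hx₁ z, hx₂ z⟩)
    (fun y => CubeLib.gen_pullMap h₁ hL₁ (ht₁ y) _) (fun y => (CubeLib.gen_pullMap h₂ hL₂ (ht₂ y) _).smul (hcu y))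
    (fun i j => h₁.appLE _ _ (le₁ i j) (τ₁ i j)) (fun i j => ?_) (fun i j => ?_)
  · rw [pullMap_res h₁ L₁ inf_le_left inf_le_left inf_le_left (le₁ i j) (t₁ i),
      pullMap_res h₁ L₁ inf_le_left inf_le_right inf_le_right (le₁ i j) (t₁ j), hτt₁, pullMap_smul]
  · have hi : U i ⊓ U j ≤ U i := inf_le_left
    have hj : U i ⊓ U j ≤ U j := inf_le_right
    let N := (Scheme.Modules.pullback h₂).obj L₂
    rw [show t' i = c i • pullMap h₂ L₂ inf_le_right (t₂ i) from rfl,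
      show t' j = c j • pullMap h₂ L₂ inf_le_right (t₂ j) from rfl, N.map_smul, N.map_smul,
      pullMap_res h₂ L₂ inf_le_right inf_le_left hi (le₂ i j) (t₂ i),
      pullMap_res h₂ L₂ inf_le_right inf_le_right hj (le₂ i j) (t₂ j), hτt₂, pullMap_smul, ← mul_smul, ← mul_smul]
    congr 1
    apply app_injective g'
    refine ev_injective fun T a ea => ?_
    have eai : ∀ s, a s ∈ g' ⁻¹ᵁ U i := fun s => (ea s).1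
    have eaj : ∀ s, a s ∈ g' ⁻¹ᵁ U j := fun s => (ea s).2
    have k₁ := congrArg (ev (a ≫ H₁) (V := g₁ ⁻¹ᵁ (W₁ i ⊓ W₁ j)) fun s => ⟨e₁ i (eai s), e₁ j (eaj s)⟩) (hτr₁ i j)
    have k₂ := congrArg (ev (a ≫ H₂) (V := g₂ ⁻¹ᵁ (W₂ i ⊓ W₂ j)) fun s => ⟨e₂ i (eai s), e₂ j (eaj s)⟩) (hτr₂ i j)
    rw [map_mul, ev_res, ev_res] at k₁ k₂
    have cev : ∀ y (ey : ∀ s, a s ∈ g' ⁻¹ᵁ U y) (ey' : ∀ s, (a ≫ g') s ∈ U y),
        ev (a ≫ g') ey' (c y) * ev a ey (ρ₁ y) = ev a ey (ρ₂ y) := fun y ey ey' => by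
      rw [← ev_app a g' ey ey', hc, map_mul, _root_.mul_comm (ev a ey (q y)), _root_.mul_assoc, ← map_mul,
        _root_.mul_comm (q y), hq, map_one, _root_.mul_one]
    have ci := cev i eai fun s => eai s
    have cj := cev j eaj fun s => eaj s
    have bi : ev (a ≫ H₁) (fun s => e₁ i (eai s)) (r₁ i) = ev a eai (ρ₁ i) := (ev_appLE a H₁ (e₁ i) eai _).symm
    have bj : ev (a ≫ H₁) (fun s => e₁ j (eaj s)) (r₁ j) = ev a eaj (ρ₁ j) := (ev_appLE a H₁ (e₁ j) eaj _).symm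
    have di : ev (a ≫ H₂) (fun s => e₂ i (eai s)) (r₂ i) = ev a eai (ρ₂ i) := (ev_appLE a H₂ (e₂ i) eai _).symm
    have dj : ev (a ≫ H₂) (fun s => e₂ j (eaj s)) (r₂ j) = ev a eaj (ρ₂ j) := (ev_appLE a H₂ (e₂ j) eaj _).symm
    have hw₁ : (a ≫ H₁) ≫ g₁ = (a ≫ g') ≫ h₁ := by rw [Category.assoc, w₁, Category.assoc]
    have hw₂ : (a ≫ H₂) ≫ g₂ = (a ≫ g') ≫ h₂ := by rw [Category.assoc, w₂, Category.assoc]
    have ea' : ∀ s, (a ≫ g') s ∈ U i ⊓ U j := fun s => ea s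
    rw [ev_app _ g₁ _ (fun s => (show ((a ≫ H₁) ≫ g₁) s ∈ W₁ i ⊓ W₁ j by rw [hw₁]; exact le₁ i j (ea' s))),
      ev_congr hw₁ _ (fun s => (show ((a ≫ g') ≫ h₁) s ∈ W₁ i ⊓ W₁ j from le₁ i j (ea' s))),
      ← ev_appLE (a ≫ g') h₁ (le₁ i j) ea', bi, bj] at k₁
    rw [ev_app _ g₂ _ (fun s => (show ((a ≫ H₂) ≫ g₂) s ∈ W₂ i ⊓ W₂ j by rw [hw₂]; exact le₂ i j (ea' s))),
      ev_congr hw₂ _ (fun s => (show ((a ≫ g') ≫ h₂) s ∈ W₂ i ⊓ W₂ j from le₂ i j (ea' s))),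
      ← ev_appLE (a ≫ g') h₂ (le₂ i j) ea', di, dj] at k₂
    rw [ev_app a g' ea ea', ev_app a g' ea ea', map_mul, map_mul, ev_res, ev_res]
    refine ((hρ₁ i).map (ev a eai)).mul_left_cancel ?_
    linear_combination (ev (a ≫ g') ea' (h₂.appLE _ _ (le₂ i j) (τ₂ i j))) * ci + k₂ - cj
      - (ev (a ≫ g') (fun s => eaj s) (c j)) * k₁

end Groth.Agent.PicAVLib
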