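import Groth.Agent.AVLib.Square
import Groth.Agent.PicRepLib.SmallPic

/-!
# The Picard scheme of an abelian variety as a group scheme with a universal rigidified class
-/

set_option autoImplicit false
set_option backward.isDefEq.respectTransparency false
set_option backward.isDefEq.respectTransparency.types false
set_option linter.style.haveILetI false
set_option synthInstance.maxHeartbeats 400000
set_option maxHeartbeats 1000000

universe u

open CategoryTheory CategoryTheory.Limits MonoidalCategory CartesianMonoidalCategory MonObj AlgebraicGeometry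
open Opposite
open Groth.Agent.PicLib

noncomputable section

namespace Groth.Agent.PicAVLib

variable {K : Type u} [Field K] (A : Over (Spec (CommRingCat.of K))) [GrpObj A]

/-- The section of `A ⊗ T → T` through the origin. -/
def rigPt (T : Over (Spec (CommRingCat.of K))) : T ⟶ A ⊗ T := lift (toUnit T ≫ η[A]) (𝟙 T)

/-- Classes on `A ⊗ T` which are trivial along the origin. -/
def rigSub (T : Over (Spec (CommRingCat.of K))) : Subgroup (Pic (A ⊗ T).left) := (pull (rigPt A T).left).ker

theorem mem_rigSub {T : Over (Spec (CommRingCat.of K))} {c : Pic (A ⊗ T).left} :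
    c ∈ rigSub A T ↔ pull (rigPt A T).left c = 1 := Iff.rfl

theorem rigPt_whisker {T T' : Over (Spec (CommRingCat.of K))} (g : T' ⟶ T) :
    rigPt A T' ≫ A ◁ g = g ≫ rigPt A T := by
  ext1 <;> simp [rigPt, ← Category.assoc, toUnit_unique (g ≫ toUnit T) (toUnit T')]

theorem pull_whisker_mem {T T' : Over (Spec (CommRingCat.of K))} (g : T' ⟶ T) {c : Pic (A ⊗ T).left}
    (hc : c ∈ rigSub A T) : pull (A ◁ g).left c ∈ rigSub A T' := by
  rw [mem_rigSub] at hc ⊢
  rw [← pull_comp, ← Over.comp_left, rigPt_whisker, Over.comp_left, pull_comp, hc, map_one]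

/-- Functoriality of rigidified classes. -/
def rigMap {T T' : Over (Spec (CommRingCat.of K))} (g : T' ⟶ T) : rigSub A T →* rigSub A T' :=
  ((pull (A ◁ g).left).comp (rigSub A T).subtype).codRestrict _ fun c => pull_whisker_mem A g c.2

theorem rigMap_id (T : Over (Spec (CommRingCat.of K))) : rigMap A (𝟙 T) = MonoidHom.id _ :=
  MonoidHom.ext fun c => Subtype.ext (by
    show pull (A ◁ 𝟙 T).left c.1 = c.1
    rw [MonoidalCategory.whiskerLeft_id, Over.id_left, pull_id])

theorem rigMap_comp {T T' T'' : Over (Spec (CommRingCat.of K))} (g' : T'' ⟶ T') (g : T' ⟶ T) :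
    rigMap A (g' ≫ g) = (rigMap A g').comp (rigMap A g) :=
  MonoidHom.ext fun c => Subtype.ext (by
    show pull (A ◁ (g' ≫ g)).left c.1 = pull (A ◁ g').left (pull (A ◁ g).left c.1)
    rw [MonoidalCategory.whiskerLeft_comp, Over.comp_left, pull_comp])

/-- The rigidified Picard functor. -/
def rigFun : (Over (Spec (CommRingCat.of K)))ᵒᵖ ⥤ GrpCat.{u} where
  obj T := GrpCat.of (Shrink.{u} (rigSub A T.unop))
  map g := GrpCat.ofHom ((Shrink.mulEquiv (α := rigSub A _)).symm.toMonoidHom.comp
    ((rigMap A g.unop).comp (Shrink.mulEquiv (α := rigSub A _)).toMonoidHom))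
  map_id T := GrpCat.ext fun x => by
    show (Shrink.mulEquiv (α := rigSub A _)).symm (rigMap A (𝟙 T.unop) (Shrink.mulEquiv x)) = x
    rw [rigMap_id, MonoidHom.id_apply, MulEquiv.symm_apply_apply]
  map_comp g g' := GrpCat.ext fun x => by
    show (Shrink.mulEquiv (α := rigSub A _)).symm (rigMap A (g'.unop ≫ g.unop) (Shrink.mulEquiv x)) =
      (Shrink.mulEquiv (α := rigSub A _)).symm (rigMap A g'.unop
        (Shrink.mulEquiv ((Shrink.mulEquiv (α := rigSub A _)).symm (rigMap A g.unop (Shrink.mulEquiv x)))))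
    rw [rigMap_comp, MonoidHom.comp_apply, MulEquiv.apply_symm_apply]

/-- `uni` is a universal rigidified class on `A ⊗ P`, compatible with the group law of `P`. -/
structure PicRep (P : Over (Spec (CommRingCat.of K))) [GrpObj P] where
  uni : Pic (A ⊗ P).left
  rig : pull (rigPt A P).left uni = 1
  surj : ∀ (T : Over (Spec (CommRingCat.of K))) (c : Pic (A ⊗ T).left), pull (rigPt A T).left c = 1 →
    ∃ g : T ⟶ P, pull (A ◁ g).left uni = c
  inj : ∀ {T : Over (Spec (CommRingCat.of K))} (g g' : T ⟶ P),
    pull (A ◁ g).left uni = pull (A ◁ g').left uni → g = g'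
  mul : ∀ {T : Over (Spec (CommRingCat.of K))} (g g' : T ⟶ P),
    pull (A ◁ (g * g')).left uni = pull (A ◁ g).left uni * pull (A ◁ g').left uni

/-- The class of a morphism to the Picard scheme. -/
def PicRep.clsOf {P : Over (Spec (CommRingCat.of K))} [GrpObj P] (D : PicRep A P)
    (T : Over (Spec (CommRingCat.of K))) : (T ⟶ P) →* Pic (A ⊗ T).left :=
  MonoidHom.mk' (fun g => pull (A ◁ g).left D.uni) fun g g' => D.mul g g'

/-- A group structure and a universal class from a representation of the rigidified functor. -/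
theorem exists_picRep_of_rep {P : Over (Spec (CommRingCat.of K))}
    (R : (rigFun A ⋙ forget GrpCat).RepresentableBy P) : ∃ (_ : GrpObj P), Nonempty (PicRep A P) := by
  letI : GrpObj P := GrpObj.ofRepresentableBy P (rigFun A) R
  let e : ∀ T, (T ⟶ P) → rigSub A T := fun T g => Shrink.mulEquiv (α := rigSub A T) (R.homEquiv g)
  have hcomp : ∀ {T T'} (h : T' ⟶ T) (g : T ⟶ P), e T' (h ≫ g) = rigMap A h (e T g) := fun h g => by
    show Shrink.mulEquiv (α := rigSub A _) (R.homEquiv (h ≫ g)) = _
    rw [R.homEquiv_comp]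
    exact MulEquiv.apply_symm_apply _ _
  let uni : Pic (A ⊗ P).left := (e P (𝟙 P)).1
  have hg : ∀ {T} (g : T ⟶ P), pull (A ◁ g).left uni = (e T g).1 := fun g => by
    have h := congrArg Subtype.val (hcomp g (𝟙 P))
    rw [Category.comp_id] at h
    exact h.symm
  refine ⟨inferInstance, ⟨⟨uni, (e P (𝟙 P)).2, fun T c hc => ?_, fun g g' h => ?_, fun {T} g g' => ?_⟩⟩⟩
  · refine ⟨R.homEquiv.symm ((Shrink.mulEquiv (α := rigSub A T)).symm ⟨c, hc⟩), ?_⟩
    rw [hg]
    show (Shrink.mulEquiv (α := rigSub A T) (R.homEquiv _)).1 = c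
    rw [Equiv.apply_symm_apply, MulEquiv.apply_symm_apply]
  · rw [hg, hg] at h
    exact R.homEquiv.injective ((Shrink.mulEquiv (α := rigSub A _)).injective (Subtype.ext h))
  · rw [hg, hg, hg, ← Subgroup.coe_mul]
    refine congrArg Subtype.val ?_
    show e T (lift g g' ≫ μ) = _
    rw [hcomp]
    have hm : e (P ⊗ P) μ[P] = e (P ⊗ P) (fst P P) * e (P ⊗ P) (snd P P) := by
      show Shrink.mulEquiv (α := rigSub A _) (R.homEquiv (R.homEquiv.symm (R.homEquiv (fst P P) * R.homEquiv (snd P P)))) = _
      rw [Equiv.apply_symm_apply, map_mul]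
    rw [hm, map_mul, ← hcomp, ← hcomp, lift_fst, lift_snd]

end Groth.Agent.PicAVLib
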